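import Cfsg.Agent.Lib.Helper3.S1936.Defs

/-! # S1936 hive, leaf L22 `Basics` (helper79) -/

set_option autoImplicit false
set_option linter.unusedSectionVars false
set_option linter.style.haveILetI false

universe u

namespace Cfsg.Agent.Lib.Helper3.S1936

open Subgroup

variable {G : Type u} [Group G] [Finite G] {p : ℕ} [Fact p.Prime]

theorem l22_exists_max (S : Set (Subgroup G)) (hS : S.Nonempty) :
    ∃ A ∈ S, ∀ B ∈ S, A ≤ B → B = A := by
  obtain ⟨A, hA⟩ := (Set.toFinite S).exists_maximal hS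
  exact ⟨A, hA.1, fun B hB hAB => le_antisymm (hA.2 hB hAB) hAB⟩

theorem exists_isMaxPP_ge {B : Subgroup G} (hB : (Nat.card ↥B).Coprime p) :
    ∃ A : Subgroup G, IsMaxPP p A ∧ B ≤ A := by
  obtain ⟨A, ⟨hA1, hA2⟩, hmax⟩ := l22_exists_max
    {C : Subgroup G | (Nat.card ↥C).Coprime p ∧ B ≤ C} ⟨B, hB, le_rfl⟩
  refine ⟨A, ⟨hA1, ?_⟩, hA2⟩
  intro C hC hAC
  exact hmax C ⟨hC, hA2.trans hAC⟩ hAC

theorem exists_isMaxInvP_ge {A T : Subgroup G} (hT : IsInvP p A T) :
    ∃ Q : Subgroup G, IsMaxInvP p A Q ∧ T ≤ Q := by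
  obtain ⟨Q, ⟨hQ1, hQ2⟩, hmax⟩ := l22_exists_max
    {C : Subgroup G | IsInvP p A C ∧ T ≤ C} ⟨T, hT, le_rfl⟩
  refine ⟨Q, ⟨hQ1, ?_⟩, hQ2⟩
  intro C hC hQC
  exact hmax C ⟨hC, hQ2.trans hQC⟩ hQC

theorem l22_not_commutative (hG : MinCex p G) (h : ∀ a b : G, a * b = b * a) : False := by
  exact hG.nonsolv (Group.isSolvable_of_comm h)

theorem normalizer_ne_top_of_isPGroup (hG : MinCex p G) {Q : Subgroup G} (hQ : IsPGroup p ↥Q)
    (hQ1 : Q ≠ ⊥) : normalizer (Q : Set G) ≠ ⊤ := by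
  intro h
  have hn : Q.Normal := normalizer_eq_top_iff.1 h
  haveI := hG.simple
  rcases IsSimpleGroup.eq_bot_or_eq_top_of_normal Q hn with h0 | h0
  · exact hQ1 h0
  · apply hG.nonsolv
    have hGp : IsPGroup p G := by
      intro g
      obtain ⟨k, hk⟩ := hQ ⟨g, by rw [h0]; trivial⟩
      refine ⟨k, ?_⟩
      have := congrArg Subtype.val hk
      simpa using this
    haveI : Group.IsNilpotent G := hGp.isNilpotent
    infer_instance

theorem normalizer_ne_top_of_coprime (hG : MinCex p G) {A : Subgroup G}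
    (hA : (Nat.card ↥A).Coprime p) (hA1 : A ≠ ⊥) : normalizer (A : Set G) ≠ ⊤ := by
  intro h
  have hn : A.Normal := normalizer_eq_top_iff.1 h
  haveI := hG.simple
  rcases IsSimpleGroup.eq_bot_or_eq_top_of_normal A hn with h0 | h0
  · exact hA1 h0
  · obtain ⟨hc, -⟩ := hG.star A hA
    apply l22_not_commutative hG
    intro a b
    have ha : a ∈ A := by rw [h0]; trivial
    have hb : b ∈ A := by rw [h0]; trivial
    have := hc.is_comm.comm ⟨a, ha⟩ ⟨b, hb⟩
    simpa using congrArg Subtype.val this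

theorem centralizer_ne_top (hG : MinCex p G) {a : G} (ha : a ≠ 1) :
    centralizer ({a} : Set G) ≠ ⊤ := by
  intro h
  have hac : a ∈ center G := by
    have := centralizer_eq_top_iff_subset.1 h
    exact this (Set.mem_singleton a)
  haveI := hG.simple
  rcases IsSimpleGroup.eq_bot_or_eq_top_of_normal (center G) inferInstance with h0 | h0
  · rw [h0, Subgroup.mem_bot] at hac
    exact ha hac
  · apply l22_not_commutative hG
    intro x y
    have hx : x ∈ center G := by rw [h0]; trivial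
    exact (Subgroup.mem_center_iff.1 hx y).symm

end Cfsg.Agent.Lib.Helper3.S1936
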