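import Cfsg.Agent.Lib.Helper3.S1936.Defs

/-!
# S1936 hive (owner helper3), leaf L10 (helper53): a `p`-group `S` normalising `A` without non-trivial fixed
points gives `|A| ≡ 1 [MOD p]`.
-/

set_option autoImplicit false

universe u

namespace Cfsg.Agent.Lib.Helper3.S1936

open Subgroup

variable {G : Type u} [Group G] [Finite G] {p : ℕ} [Fact p.Prime]

/-- the conjugation action of `S ≤ N(A)` on `A` -/
@[reducible] def l10_act {A S : Subgroup G} (hSA : S ≤ normalizer (A : Set G)) : MulAction ↥S ↥A where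
  smul s a := ⟨(s : G) * (a : G) * (s : G)⁻¹, (mem_normalizer_iff.mp (hSA s.2) a).mp a.2⟩
  one_smul a := by
    apply Subtype.ext
    show ((1 : ↥S) : G) * (a : G) * ((1 : ↥S) : G)⁻¹ = a
    simp
  mul_smul s t a := by
    apply Subtype.ext
    show ((s * t : ↥S) : G) * (a : G) * ((s * t : ↥S) : G)⁻¹ = (s : G) * ((t : G) * (a : G) * (t : G)⁻¹) * (s : G)⁻¹
    rw [Subgroup.coe_mul, mul_inv_rev]
    group

theorem card_modEq_one_of_fixedPointFree {A S : Subgroup G} (hS : IsPGroup p ↥S)
    (hSA : S ≤ normalizer (A : Set G))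
    (hfix : ∀ a ∈ A, (∀ s ∈ S, s * a = a * s) → a = 1) : Nat.card ↥A ≡ 1 [MOD p] := by
  letI : MulAction ↥S ↥A := l10_act hSA
  have hsmul : ∀ (s : ↥S) (a : ↥A), ((s • a : ↥A) : G) = (s : G) * (a : G) * (s : G)⁻¹ := fun _ _ => rfl
  have h1 := hS.card_modEq_card_fixedPoints ↥A
  have h2 : MulAction.fixedPoints ↥S ↥A = {1} := by
    ext a
    rw [MulAction.mem_fixedPoints, Set.mem_singleton_iff]
    constructor
    · intro ha
      have : (a : G) = 1 := by
        apply hfix a a.2
        intro s hs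
        have h3 := congrArg Subtype.val (ha ⟨s, hs⟩)
        rw [hsmul] at h3
        exact mul_inv_eq_iff_eq_mul.mp h3
      exact Subtype.ext this
    · rintro rfl s
      apply Subtype.ext
      rw [hsmul]
      simp
  rw [h2] at h1
  have h3 : Nat.card ↥({1} : Set ↥A) = 1 := by
    rw [Nat.card_eq_one_iff_unique]
    exact ⟨inferInstance, ⟨⟨1, rfl⟩⟩⟩
  rw [h3] at h1
  exact h1

end Cfsg.Agent.Lib.Helper3.S1936
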