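import Cfsg.Agent.Lib.Helper3.S1936.Defs

/-!
# S1936 hive, leaf L12 (helper99): `|G| = p ^ k * n` with `n ≡ 1 [MOD p]`

The `p'`-part of `|G|` is the product of the distinct orders of the maximal `p'`-subgroups.
-/

set_option autoImplicit false

universe u

namespace Cfsg.Agent.Lib.Helper3.S1936

open Subgroup

variable {G : Type u} [Group G] [Finite G] {p : ℕ} [Fact p.Prime]

/-- every `p'`-subgroup lies in a maximal one -/
theorem l12_exists_max (Q : Subgroup G) (hQ : (Nat.card ↥Q).Coprime p) :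
    ∃ B : Subgroup G, IsMaxPP p B ∧ Q ≤ B := by
  obtain ⟨m, hm, hmax⟩ := (wellFounded_gt (α := Subgroup G)).has_min
    {B : Subgroup G | (Nat.card ↥B).Coprime p ∧ Q ≤ B} ⟨Q, hQ, le_rfl⟩
  refine ⟨m, ⟨hm.1, fun B' hB' hle => ?_⟩, hm.2⟩
  have h1 := hmax B' ⟨hB', hm.2.trans hle⟩
  exact (eq_of_le_of_not_lt hle h1).symm

/-- pairwise coprime divisors: the product divides -/
theorem l12_prod_dvd (S : Finset ℕ) (z : ℕ)
    (hcop : ∀ m ∈ S, ∀ m' ∈ S, m ≠ m' → Nat.Coprime m m')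
    (hdvd : ∀ m ∈ S, m ∣ z) : ∏ m ∈ S, m ∣ z := by
  induction S using Finset.induction_on with
  | empty => simp
  | insert a s ha ih =>
    rw [Finset.prod_insert ha]
    apply Nat.Coprime.mul_dvd_of_dvd_of_dvd
    · apply Nat.Coprime.prod_right
      intro i hi
      exact hcop a (Finset.mem_insert_self a s) i (Finset.mem_insert_of_mem hi)
        (fun h => ha (h ▸ hi))
    · exact hdvd a (Finset.mem_insert_self a s)
    · exact ih (fun m hm m' hm' => hcop m (Finset.mem_insert_of_mem hm) m'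
        (Finset.mem_insert_of_mem hm')) (fun m hm => hdvd m (Finset.mem_insert_of_mem hm))

/-- a product of numbers `≡ 1` is `≡ 1` -/
theorem l12_prod_modEq (S : Finset ℕ) (q : ℕ) (h : ∀ m ∈ S, m ≡ 1 [MOD q]) :
    ∏ m ∈ S, m ≡ 1 [MOD q] := by
  induction S using Finset.induction_on with
  | empty => simp [Nat.ModEq]
  | insert a s ha ih =>
    rw [Finset.prod_insert ha]
    have h1 := (h a (Finset.mem_insert_self a s)).mul
      (ih (fun m hm => h m (Finset.mem_insert_of_mem hm)))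
    simpa using h1

theorem card_eq_pow_mul (hG : MinCex p G)
    (hF1 : ∀ B : Subgroup G, IsMaxPP p B → (Nat.card ↥B).Coprime B.index)
    (hF2 : ∀ (B B' : Subgroup G), IsMaxPP p B → IsMaxPP p B' → ∀ q : ℕ, q.Prime →
      q ∣ Nat.card ↥B → q ∣ Nat.card ↥B' → Nat.card ↥B = Nat.card ↥B')
    (hK4 : ∀ B : Subgroup G, IsMaxPP p B → Nat.card ↥B ≡ 1 [MOD p]) :
    ∃ k n : ℕ, Nat.card G = p ^ k * n ∧ n ≡ 1 [MOD p] := by
  classical
  have hp : p.Prime := Fact.out
  have hG0 : Nat.card G ≠ 0 := Nat.card_pos.ne'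
  refine ⟨(Nat.card G).factorization p, ordCompl[p] (Nat.card G),
    (Nat.ordProj_mul_ordCompl_eq_self (Nat.card G) p).symm, ?_⟩
  have : Fintype (Subgroup G) := Fintype.ofFinite _
  have hS : ∀ m ∈ (Finset.univ.filter (fun B : Subgroup G => IsMaxPP p B)).image
      (fun B : Subgroup G => Nat.card ↥B),
      ∃ B : Subgroup G, IsMaxPP p B ∧ Nat.card ↥B = m := by
    intro m hm
    obtain ⟨B, hB, rfl⟩ := Finset.mem_image.1 hm
    exact ⟨B, (Finset.mem_filter.1 hB).2, rfl⟩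
  have hSmem : ∀ B : Subgroup G, IsMaxPP p B → Nat.card ↥B ∈
      (Finset.univ.filter (fun B : Subgroup G => IsMaxPP p B)).image
      (fun B : Subgroup G => Nat.card ↥B) := by
    intro B hB
    exact Finset.mem_image.2 ⟨B, Finset.mem_filter.2 ⟨Finset.mem_univ _, hB⟩, rfl⟩
  generalize (Finset.univ.filter (fun B : Subgroup G => IsMaxPP p B)).image
      (fun B : Subgroup G => Nat.card ↥B) = S at hS hSmem
  have hcop : ∀ m ∈ S, ∀ m' ∈ S, m ≠ m' → Nat.Coprime m m' := by
    intro m hm m' hm' hne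
    by_contra hnc
    obtain ⟨q, hq, hq1, hq2⟩ := Nat.Prime.not_coprime_iff_dvd.1 hnc
    obtain ⟨B, hB, rfl⟩ := hS m hm
    obtain ⟨B', hB', rfl⟩ := hS m' hm'
    exact hne (hF2 B B' hB hB' q hq hq1 hq2)
  have hdvd : ∀ m ∈ S, m ∣ ordCompl[p] (Nat.card G) := by
    intro m hm
    obtain ⟨B, hB, rfl⟩ := hS m hm
    have h1 : Nat.card ↥B ∣ p ^ (Nat.card G).factorization p * ordCompl[p] (Nat.card G) := by
      rw [Nat.ordProj_mul_ordCompl_eq_self]
      exact Subgroup.card_subgroup_dvd_card B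
    exact Nat.Coprime.dvd_of_dvd_mul_left (Nat.Coprime.pow_right _ hB.1) h1
  have hpos : ∀ m ∈ S, m ≠ 0 := by
    intro m hm
    obtain ⟨B, hB, rfl⟩ := hS m hm
    exact Nat.card_pos.ne'
  have hprod0 : ∏ m ∈ S, m ≠ 0 := Finset.prod_ne_zero_iff.2 hpos
  have h1 : ∏ m ∈ S, m ∣ ordCompl[p] (Nat.card G) := l12_prod_dvd S _ hcop hdvd
  have hc0 : ordCompl[p] (Nat.card G) ≠ 0 := (Nat.ordCompl_pos p hG0).ne'
  have h2 : ordCompl[p] (Nat.card G) ∣ ∏ m ∈ S, m := by
    rw [← Nat.factorization_prime_le_iff_dvd hc0 hprod0]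
    intro q hq
    rw [Nat.factorization_ordCompl]
    by_cases hqp : q = p
    · subst hqp
      simp
    · rw [Finsupp.erase_ne hqp]
      rw [← Nat.Prime.pow_dvd_iff_le_factorization hq hprod0]
      have : Fact q.Prime := ⟨hq⟩
      have hQ := Sylow.card_eq_multiplicity (default : Sylow q G)
      have hQc : (Nat.card ↥((default : Sylow q G) : Subgroup G)).Coprime p := by
        rw [hQ]
        exact Nat.Coprime.pow_left _ ((Nat.coprime_primes hq hp).2 hqp)
      obtain ⟨B, hB, hle⟩ := l12_exists_max ((default : Sylow q G) : Subgroup G) hQc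
      rw [← hQ]
      exact (Subgroup.card_dvd_of_le hle).trans
        (Finset.dvd_prod_of_mem (fun m : ℕ => m) (hSmem B hB))
  have h3 : ordCompl[p] (Nat.card G) = ∏ m ∈ S, m := Nat.dvd_antisymm h2 h1
  rw [h3]
  apply l12_prod_modEq
  intro m hm
  obtain ⟨B, hB, rfl⟩ := hS m hm
  exact hK4 B hB

end Cfsg.Agent.Lib.Helper3.S1936
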