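import Cfsg.Agent.Lib.Helper3.S1936.Defs

/-!
# S1936 hive (owner helper3): leaf L21 `commutator_mem_core` (by helper9).
`H = A · P` by cardinality (complements); for `h = a x`: `[b, h] = a [b, x] a⁻¹` and
`[b, x] ∈ P ⊓ (R ⊔ A) ≤ R`.
-/

set_option autoImplicit false

universe u

namespace Cfsg.Agent.Lib.Helper3.S1936

open Subgroup

variable {G : Type u} [Group G] [Finite G] {p : ℕ} [Fact p.Prime]

/-- the cardinality of a Sylow `p`-subgroup of `G` lying in `H` with `|H| = p ^ k * m`, `p ∤ m` -/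
theorem l21_card_sylow {H : Subgroup G} (P : Sylow p G) (hPH : (P : Subgroup G) ≤ H) {k m : ℕ}
    (hm : m.Coprime p) (hcard : Nat.card ↥H = p ^ k * m) :
    Nat.card ↥((P : Subgroup G).subgroupOf H) = p ^ k := by
  have hp : p.Prime := Fact.out
  have h1 := Sylow.card_eq_multiplicity (P.subtype hPH)
  rw [Sylow.coe_subtype] at h1
  rw [h1, hcard]
  have hm0 : m ≠ 0 := by
    intro h0
    rw [h0, Nat.coprime_zero_left] at hm
    exact hp.one_lt.ne' hm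
  have hpm : ¬ p ∣ m := by
    intro hd
    have := Nat.Coprime.eq_one_of_dvd hm.symm hd
    exact hp.one_lt.ne' this
  rw [Nat.factorization_mul (pow_ne_zero k hp.ne_zero) hm0, Finsupp.add_apply,
    hp.factorization_pow, Finsupp.single_eq_same, Nat.factorization_eq_zero_of_not_dvd hpm, add_zero]

theorem commutator_mem_core {A R H : Subgroup G} (P : Sylow p G)
    (hAc : ∀ x ∈ A, ∀ y ∈ A, x * y = y * x) (hAp : (Nat.card ↥A).Coprime p)
    (hAH : A ≤ H) (hRH : R ≤ H) (hRp : IsPGroup p ↥R) (hHR : H ≤ normalizer (R : Set G))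
    (hHRA : H ≤ normalizer ((R ⊔ A : Subgroup G) : Set G))
    (hsyl : ∀ T : Subgroup G, T ≤ R ⊔ A → IsPGroup p ↥T → T ≤ R)
    (hcard : ∃ k : ℕ, Nat.card ↥H = p ^ k * Nat.card ↥A) (hPH : (P : Subgroup G) ≤ H)
    {b : G} (hbA : b ∈ A) (hbP : b ∈ normalizer ((P : Subgroup G) : Set G)) :
    ∀ h ∈ H, b * h * b⁻¹ * h⁻¹ ∈ R := by
  obtain ⟨k, hk⟩ := hcard
  -- `A` and `P` are complements in `H`
  have hcA : Nat.card ↥(A.subgroupOf H) = Nat.card ↥A :=
    Nat.card_congr (Subgroup.subgroupOfEquivOfLe hAH).toEquiv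
  have hcP : Nat.card ↥((P : Subgroup G).subgroupOf H) = p ^ k := l21_card_sylow P hPH hAp hk
  have hcompl : (A.subgroupOf H).IsComplement' ((P : Subgroup G).subgroupOf H) := by
    apply Subgroup.isComplement'_of_coprime
    · rw [hcA, hcP, hk, mul_comm]
    · rw [hcA, hcP]
      exact Nat.Coprime.pow_right k hAp
  -- the key fact: `[b, x] ∈ R` for `x ∈ P`
  have hkey : ∀ x ∈ (P : Subgroup G), b * x * b⁻¹ * x⁻¹ ∈ R := by
    intro x hx
    have h1 : b * x * b⁻¹ * x⁻¹ ∈ (P : Subgroup G) :=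
      (P : Subgroup G).mul_mem ((mem_normalizer_iff.1 hbP x).1 hx) ((P : Subgroup G).inv_mem hx)
    have hbK : b ∈ R ⊔ A := (le_sup_right : A ≤ R ⊔ A) hbA
    have h2 : x * b⁻¹ * x⁻¹ ∈ R ⊔ A :=
      (mem_normalizer_iff.1 (hHRA (hPH hx)) b⁻¹).1 ((R ⊔ A).inv_mem hbK)
    have h3 : b * x * b⁻¹ * x⁻¹ ∈ R ⊔ A := by
      have e : b * x * b⁻¹ * x⁻¹ = b * (x * b⁻¹ * x⁻¹) := by group
      rw [e]
      exact (R ⊔ A).mul_mem hbK h2
    have h4 : (P : Subgroup G) ⊓ (R ⊔ A) ≤ R :=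
      hsyl _ inf_le_right (IsPGroup.to_le P.isPGroup' inf_le_left)
    exact h4 ⟨h1, h3⟩
  intro h hh
  obtain ⟨⟨⟨a, ha⟩, ⟨x, hx⟩⟩, hax, -⟩ :=
    (Subgroup.isComplement_iff_existsUnique.1 (Subgroup.isComplement'_def.1 hcompl)) ⟨h, hh⟩
  have haA : (a : G) ∈ A := mem_subgroupOf.1 ha
  have hxP : (x : G) ∈ (P : Subgroup G) := mem_subgroupOf.1 hx
  have hh' : h = (a : G) * (x : G) := by
    have := congrArg Subtype.val hax
    simpa using this.symm
  rw [hh']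
  have hc := hkey (x : G) hxP
  have hconj : (a : G) * (b * (x : G) * b⁻¹ * (x : G)⁻¹) * (a : G)⁻¹ ∈ R :=
    (mem_normalizer_iff.1 (hHR (hAH haA)) _).1 hc
  have e : b * ((a : G) * (x : G)) * b⁻¹ * ((a : G) * (x : G))⁻¹ =
      (a : G) * (b * (x : G) * b⁻¹ * (x : G)⁻¹) * (a : G)⁻¹ := by
    calc b * ((a : G) * (x : G)) * b⁻¹ * ((a : G) * (x : G))⁻¹
        = (b * (a : G)) * ((x : G) * b⁻¹ * (x : G)⁻¹) * (a : G)⁻¹ := by group
      _ = ((a : G) * b) * ((x : G) * b⁻¹ * (x : G)⁻¹) * (a : G)⁻¹ := by rw [hAc b hbA (a : G) haA]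
      _ = (a : G) * (b * (x : G) * b⁻¹ * (x : G)⁻¹) * (a : G)⁻¹ := by group
  rw [e]
  exact hconj

end Cfsg.Agent.Lib.Helper3.S1936
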