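import Cfsg.Agent.Lib.Helper3.S1936.Defs
import Cfsg.Agent.Lib.Helper59.S1936K2

/-!
# S1936 hive, leaf L11: two characters of `A` into `(ZMod p)ˣ` have a common nontrivial kernel element
(from the abstract lemma `Cfsg.Agent.Lib.Helper59.S1936.k2_kernels_meet`).
-/

set_option autoImplicit false

universe u

namespace Cfsg.Agent.Lib.Helper3.S1936

open Subgroup

variable {G : Type u} [Group G] [Finite G] {p : ℕ} [Fact p.Prime]

theorem exists_common_ker (hp : 5 ≤ p) {A S : Subgroup G} (hA1 : A ≠ ⊥)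
    (hAc : ∀ x ∈ A, ∀ y ∈ A, x * y = y * x) (hS : IsPGroup p ↥S)
    (hSA : S ≤ normalizer (A : Set G))
    (hfix : ∀ a ∈ A, (∀ s ∈ S, s * a = a * s) → a = 1)
    (hcard : Nat.card ↥A ≡ 1 [MOD p]) (φ ψ : ↥A →* (ZMod p)ˣ) :
    ∃ c : ↥A, c ≠ 1 ∧ φ c = 1 ∧ ψ c = 1 := by
  refine Cfsg.Agent.Lib.Helper59.S1936.k2_kernels_meet_zmod p hp A S hA1 hS hSA ?_ φ ψ
  intro x hx h
  apply hfix x hx
  intro s hs
  have := h s hs
  calc s * x = s * x * s⁻¹ * s := by group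
    _ = x * s := by rw [this]

end Cfsg.Agent.Lib.Helper3.S1936
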