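import Cfsg.Agent.Lib.Helper3.S1936.Defs

/-!
# S1936 hive: leaf L07 `card_eq_of_common_prime` (helper91)

Two maximal `p'`-subgroups whose orders share a prime divisor `q` have the same order:
an element `s` of order `q` of `A` is conjugate into `A'` (a `q`-group acting on `G ⧸ A'`, of
cardinality prime to `q`, has a fixed point); `A ≤ C(s)`, `A' ≤ C(s')` for the conjugate `s'`,
and both centralizers are proper of the same order `p ^ k * |A| = p ^ k' * |A'|`.
-/

set_option autoImplicit false

universe u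

namespace Cfsg.Agent.Lib.Helper3.S1936

open Subgroup

variable {G : Type u} [Group G] [Finite G] {p : ℕ} [Fact p.Prime]

/-- arithmetic: `p ^ k * a = p ^ l * b` with `a`, `b` prime to `p` gives `a = b`. -/
theorem l07_arith {p a b k l : ℕ} (ha : a.Coprime p) (hb : b.Coprime p)
    (h : p ^ k * a = p ^ l * b) : a = b := by
  have h1 : a ∣ b := by
    have : a ∣ b * p ^ l := by
      rw [mul_comm, ← h]; exact dvd_mul_left _ _
    exact Nat.Coprime.dvd_of_dvd_mul_right (Nat.Coprime.pow_right l ha) this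
  have h2 : b ∣ a := by
    have : b ∣ a * p ^ k := by
      rw [mul_comm, h]; exact dvd_mul_left _ _
    exact Nat.Coprime.dvd_of_dvd_mul_right (Nat.Coprime.pow_right k hb) this
  exact Nat.dvd_antisymm h1 h2

/-- in a minimal counterexample the centralizer of a nontrivial element is proper. -/
theorem l07_centralizer_ne_top (hG : MinCex p G) {a : G} (ha : a ≠ 1) :
    centralizer ({a} : Set G) ≠ ⊤ := by
  intro htop
  have hsimple := hG.simple
  have hac : a ∈ center G := by
    rw [Subgroup.mem_center_iff]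
    intro g
    have hg : g ∈ centralizer ({a} : Set G) := by rw [htop]; exact Subgroup.mem_top g
    rw [Subgroup.mem_centralizer_singleton_iff] at hg
    exact hg
  rcases Subgroup.Normal.eq_bot_or_eq_top (H := center G) inferInstance with h | h
  · rw [h, Subgroup.mem_bot] at hac
    exact ha hac
  · apply hG.nonsolv
    have hcomm : ∀ x y : G, x * y = y * x := by
      intro x y
      have hx : x ∈ center G := by rw [h]; exact Subgroup.mem_top x
      rw [Subgroup.mem_center_iff] at hx
      exact (hx y).symm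
    exact Group.isSolvable_of_comm hcomm

/-- conjugate centralizers have the same cardinality. -/
theorem l07_card_centralizer_conj (s g : G) :
    Nat.card ↥(centralizer ({g⁻¹ * s * g} : Set G)) = Nat.card ↥(centralizer ({s} : Set G)) := by
  refine Nat.card_congr
    { toFun := fun x => ⟨g * x.1 * g⁻¹, ?_⟩
      invFun := fun y => ⟨g⁻¹ * y.1 * g, ?_⟩
      left_inv := fun x => by ext; simp [mul_assoc]
      right_inv := fun y => by ext; simp [mul_assoc] }
  · have hx := x.2
    rw [Subgroup.mem_centralizer_singleton_iff] at hx ⊢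
    have : g * x.1 * g⁻¹ * s = g * (x.1 * (g⁻¹ * s * g)) * g⁻¹ := by group
    rw [this, hx]; group
  · have hy := y.2
    rw [Subgroup.mem_centralizer_singleton_iff] at hy ⊢
    have : g⁻¹ * y.1 * g * (g⁻¹ * s * g) = g⁻¹ * (y.1 * s) * g := by group
    rw [this, hy]; group

/-! ### L07 file `CommonPrime.lean` (conjugate a Sylow q of A' into A, both sit in C(s)) -/
theorem card_eq_of_common_prime (hG : MinCex p G)
    (hF0 : ∀ B H : Subgroup G, IsMaxPP p B → H ≠ ⊤ → B ≤ H →
      ∃ k : ℕ, Nat.card ↥H = p ^ k * Nat.card ↥B)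
    (hF1 : ∀ B : Subgroup G, IsMaxPP p B → (Nat.card ↥B).Coprime B.index)
    {A A' : Subgroup G} (hA : IsMaxPP p A) (hA' : IsMaxPP p A') {q : ℕ} (hq : q.Prime)
    (h1 : q ∣ Nat.card ↥A) (h2 : q ∣ Nat.card ↥A') : Nat.card ↥A = Nat.card ↥A' := by
  have : Fact q.Prime := ⟨hq⟩
  -- an element of order `q` in `A`
  obtain ⟨x, hx⟩ := exists_prime_orderOf_dvd_card' (G := ↥A) q h1
  set s : G := (x : G) with hs
  have hsA : s ∈ A := x.2
  have hso : orderOf s = q := by rw [hs, Subgroup.orderOf_coe, hx]
  have hs1 : s ≠ 1 := by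
    intro h
    rw [h, orderOf_one] at hso
    exact hq.one_lt.ne hso
  -- `q` does not divide the index of `A'`
  have hqi : ¬ q ∣ A'.index := by
    intro hd
    have := Nat.dvd_gcd h2 hd
    rw [Nat.Coprime.gcd_eq_one (hF1 A' hA')] at this
    exact hq.one_lt.ne' (Nat.dvd_one.1 this)
  -- the `q`-group `⟨s⟩` has a fixed point on `G ⧸ A'`
  have hPs : IsPGroup q ↥(zpowers s) := by
    apply IsPGroup.of_card (n := 1)
    rw [Nat.card_zpowers, hso, pow_one]
  obtain ⟨c, hc⟩ := hPs.nonempty_fixed_point_of_prime_not_dvd_card (G ⧸ A') hqi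
  obtain ⟨g, rfl⟩ := QuotientGroup.mk_surjective c
  have hfix : (⟨s, mem_zpowers s⟩ : ↥(zpowers s)) • (g : G ⧸ A') = (g : G ⧸ A') := hc _
  have hs'A' : g⁻¹ * s * g ∈ A' := by
    have h3 : ((s * g : G) : G ⧸ A') = (g : G ⧸ A') := hfix
    have h4 := QuotientGroup.eq.1 h3.symm
    simpa [mul_assoc] using h4
  have hs'1 : g⁻¹ * s * g ≠ 1 := by
    intro h
    apply hs1
    have : s = g * (g⁻¹ * s * g) * g⁻¹ := by group
    rw [this, h]; group
  -- `A ≤ C(s)` and `A' ≤ C(s')`
  have hAcomm := (hG.star A hA.1).1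
  have hA'comm := (hG.star A' hA'.1).1
  have hAle : A ≤ centralizer ({s} : Set G) := by
    intro a ha
    rw [Subgroup.mem_centralizer_singleton_iff]
    have := mul_comm' (⟨a, ha⟩ : ↥A) ⟨s, hsA⟩
    exact congrArg Subtype.val this
  have hA'le : A' ≤ centralizer ({g⁻¹ * s * g} : Set G) := by
    intro a ha
    rw [Subgroup.mem_centralizer_singleton_iff]
    have := mul_comm' (⟨a, ha⟩ : ↥A') ⟨g⁻¹ * s * g, hs'A'⟩
    exact congrArg Subtype.val this
  obtain ⟨k, hk⟩ := hF0 A _ hA (l07_centralizer_ne_top hG hs1) hAle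
  obtain ⟨l, hl⟩ := hF0 A' _ hA' (l07_centralizer_ne_top hG hs'1) hA'le
  rw [l07_card_centralizer_conj] at hl
  exact l07_arith hA.1 hA'.1 (hk.symm.trans hl)

end Cfsg.Agent.Lib.Helper3.S1936
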