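import Cfsg.Agent.Lib.Helper3.S1936.Defs
import Cfsg.Agent.S1991

/-!
# S1936 hive: leaf L14 (helper24): the complement of a Sylow `p`-subgroup in its normalizer is
not trivial (else `Cfsg.Agent.S1991.result` gives a normal subgroup of index `p`).
-/

set_option autoImplicit false

universe u

namespace Cfsg.Agent.Lib.Helper3.S1936

open Subgroup

variable {G : Type u} [Group G] [Finite G] {p : ℕ} [Fact p.Prime]

/-! ### L14 file `ComplNeBot.lean` (Cfsg.Agent.S1991: else G has a normal subgroup of index p) -/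
theorem complement_ne_bot (hG : MinCex p G) (hp : 5 ≤ p) (hdvd : p ∣ Nat.card G)
    (P : Sylow p G) {B : Subgroup G} (hB : (Nat.card ↥B).Coprime p)
    (hle : normalizer ((P : Subgroup G) : Set G) ≤ (P : Subgroup G) ⊔ B) : B ≠ ⊥ := by
  rintro rfl
  rw [sup_bot_eq] at hle
  have hpp : p.Prime := Fact.out
  have hP : (P : Subgroup G) ≠ ⊥ := P.ne_bot_of_dvd_card hdvd
  have hN : ∀ g ∈ Subgroup.normalizer ((P : Subgroup G) : Set G), (orderOf g).Coprime p →
      g ∈ Subgroup.centralizer ((P : Subgroup G) : Set G) := by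
    intro g hg hco
    have hgP : g ∈ (P : Subgroup G) := hle hg
    obtain ⟨k, hk⟩ := (P.2 ⟨g, hgP⟩)
    have hk' : g ^ (p ^ k) = 1 := by
      have := congrArg Subtype.val hk
      simpa using this
    have hdv : orderOf g ∣ p ^ k := orderOf_dvd_of_pow_eq_one hk'
    have h1 : orderOf g = 1 := by
      have hc : (orderOf g).Coprime (p ^ k) := Nat.Coprime.pow_right k hco
      exact Nat.eq_one_of_dvd_one ((Nat.Coprime.dvd_of_dvd_mul_left hc (dvd_mul_of_dvd_left hdv 1)))
    rw [orderOf_eq_one_iff] at h1
    rw [h1]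
    exact one_mem _
  obtain ⟨N, hNn, hNi⟩ := Cfsg.Agent.S1991.result hp P hP hN
  have hsimple := hG.simple
  rcases hNn.eq_bot_or_eq_top with rfl | rfl
  · -- index of ⊥ is |G| = p, so G is cyclic of prime order, hence solvable
    rw [Subgroup.index_bot] at hNi
    apply hG.nonsolv
    have hcyc : IsCyclic G := isCyclic_of_prime_card hNi
    let _inst : CommGroup G := hcyc.commGroup
    exact inferInstance
  · rw [Subgroup.index_top] at hNi
    exact hpp.one_lt.ne hNi
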