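import Cfsg.Agent.Lib.Helper3.S1936.Defs

/-!
# S1936 hive, leaf L15 (helper34): a complement `B` of `P` in `N_G(P)` is not cyclic
(`|Syl_p| ≡ 1 mod p` gives `|B| ≡ 1 mod p`; a cyclic `p'`-subgroup has order `≤ p - 1` by `Star`).
-/

set_option autoImplicit false

universe u

namespace Cfsg.Agent.Lib.Helper3.S1936

open Subgroup

variable {G : Type u} [Group G] [Finite G] {p : ℕ} [Fact p.Prime]

omit [Fact p.Prime] in
theorem l15_pow_cancel (hp : p.Prime) {a k u v : ℕ} (hu : ¬ p ∣ u) (hv : ¬ p ∣ v)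
    (h : p ^ a * u = p ^ k * v) : u = v := by
  have : Fact p.Prime := ⟨hp⟩
  have hu0 : u ≠ 0 := fun h0 => hu (h0 ▸ dvd_zero p)
  have hv0 : v ≠ 0 := fun h0 => hv (h0 ▸ dvd_zero p)
  have hpa : p ^ a ≠ 0 := pow_ne_zero _ hp.pos.ne'
  have hpk : p ^ k ≠ 0 := pow_ne_zero _ hp.pos.ne'
  have h1 : padicValNat p (p ^ a * u) = a := by
    rw [padicValNat.mul hpa hu0, padicValNat.prime_pow, padicValNat.eq_zero_of_not_dvd hu, add_zero]
  have h2 : padicValNat p (p ^ k * v) = k := by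
    rw [padicValNat.mul hpk hv0, padicValNat.prime_pow, padicValNat.eq_zero_of_not_dvd hv, add_zero]
  have hak : a = k := by rw [← h1, ← h2, h]
  subst hak
  exact Nat.eq_of_mul_eq_mul_left (Nat.pos_of_ne_zero hpa) h

theorem complement_not_isCyclic (hstar : Star p G) (P : Sylow p G) {B : Subgroup G}
    (hB : (Nat.card ↥B).Coprime p) (hB1 : B ≠ ⊥)
    (hcard : Nat.card ↥(normalizer ((P : Subgroup G) : Set G)) =
        Nat.card ↥(P : Subgroup G) * Nat.card ↥B)
    (hprod : ∃ k n : ℕ, Nat.card G = p ^ k * n ∧ n ≡ 1 [MOD p]) : ¬ IsCyclic ↥B := by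
  have hp : p.Prime := Fact.out
  obtain ⟨k, n, hGn, hn1⟩ := hprod
  obtain ⟨a, ha⟩ := P.2.exists_card_eq
  -- the number of Sylow subgroups
  set s := (normalizer ((P : Subgroup G) : Set G)).index with hs
  have hs1 : s ≡ 1 [MOD p] := by
    have h1 : Nat.card (Sylow p G) = s := Sylow.card_eq_index_normalizer P
    rw [← h1]
    exact card_sylow_modEq_one p G
  have hG2 : Nat.card G = p ^ a * (Nat.card ↥B * s) := by
    rw [← Subgroup.card_mul_index (normalizer ((P : Subgroup G) : Set G)), hcard, ha, mul_assoc]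
  have hpn : ¬ p ∣ n := by
    intro hd
    have h0 : n ≡ 0 [MOD p] := (Nat.modEq_zero_iff_dvd).2 hd
    have h10 : 1 ≡ 0 [MOD p] := hn1.symm.trans h0
    have := (Nat.modEq_zero_iff_dvd).1 h10
    exact hp.one_lt.ne' (Nat.dvd_one.1 this)
  have hps : ¬ p ∣ s := by
    intro hd
    have h0 : s ≡ 0 [MOD p] := (Nat.modEq_zero_iff_dvd).2 hd
    have h10 : 1 ≡ 0 [MOD p] := hs1.symm.trans h0
    have := (Nat.modEq_zero_iff_dvd).1 h10
    exact hp.one_lt.ne' (Nat.dvd_one.1 this)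
  have hpB : ¬ p ∣ Nat.card ↥B := by
    intro hd
    have := Nat.Coprime.eq_one_of_dvd hB.symm hd
    exact hp.one_lt.ne' this
  have hpBs : ¬ p ∣ Nat.card ↥B * s := by
    intro hd
    rcases hp.dvd_mul.1 hd with h | h
    · exact hpB h
    · exact hps h
  have hBs : Nat.card ↥B * s = n := l15_pow_cancel hp hpBs hpn (hG2.symm.trans hGn)
  have hB1' : Nat.card ↥B ≡ 1 [MOD p] := by
    have h1 : Nat.card ↥B * s ≡ Nat.card ↥B * 1 [MOD p] := Nat.ModEq.mul_left _ hs1
    rw [mul_one, hBs] at h1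
    exact h1.symm.trans hn1
  intro hcyc
  obtain ⟨g, hg⟩ := hcyc.exists_generator
  have hord : orderOf g = Nat.card ↥B := orderOf_eq_card_of_forall_mem_zpowers hg
  have hgp : g ^ (p - 1) = 1 := by
    have := (hstar B hB).2 (g : G) g.2
    exact Subtype.ext (by simpa using this)
  have hdvd : Nat.card ↥B ∣ p - 1 := by
    rw [← hord]
    exact orderOf_dvd_of_pow_eq_one hgp
  have hle : Nat.card ↥B ≤ p - 1 := Nat.le_of_dvd (Nat.sub_pos_of_lt hp.one_lt) hdvd
  have hlt : Nat.card ↥B < p := lt_of_le_of_lt hle (Nat.sub_lt hp.pos one_pos)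
  have hone : Nat.card ↥B = 1 := by
    have h1 := hB1'
    unfold Nat.ModEq at h1
    rw [Nat.mod_eq_of_lt hlt, Nat.mod_eq_of_lt hp.one_lt] at h1
    exact h1
  exact hB1 (Subgroup.card_eq_one.1 hone)

end Cfsg.Agent.Lib.Helper3.S1936
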