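import Mathlib

/-!
# S1936 hive: shared definitions

`Star p G`  : the hypothesis of S1936 (every `p'`-subgroup is abelian of exponent dividing `p - 1`).
`MinCex p G`: a minimal counterexample (simple, non-solvable, proper subgroups solvable, `Star`).
`IsMaxPP p A`: `A` is a maximal `p'`-subgroup.
`IsInvP p A T`: `T` is an `A`-invariant `p`-subgroup.  `IsMaxInvP`: maximal such.
-/

set_option autoImplicit false

namespace Cfsg.Agent.Lib.Helper3.S1936

/-- hypothesis (*) of S1936 -/
def Star (p : ℕ) (G : Type*) [Group G] : Prop :=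
  ∀ H : Subgroup G, (Nat.card ↥H).Coprime p →
    IsMulCommutative ↥H ∧ ∀ x ∈ H, x ^ (p - 1) = 1

/-- the minimal counterexample -/
structure MinCex (p : ℕ) (G : Type*) [Group G] : Prop where
  star : Star p G
  simple : IsSimpleGroup G
  nonsolv : ¬ Group.IsSolvable G
  proper : ∀ H : Subgroup G, H ≠ ⊤ → Group.IsSolvable ↥H

/-- maximal `p'`-subgroup -/
def IsMaxPP (p : ℕ) {G : Type*} [Group G] (A : Subgroup G) : Prop :=
  (Nat.card ↥A).Coprime p ∧ ∀ B : Subgroup G, (Nat.card ↥B).Coprime p → A ≤ B → B = A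

/-- `T` is an `A`-invariant `p`-subgroup -/
def IsInvP (p : ℕ) {G : Type*} [Group G] (A T : Subgroup G) : Prop :=
  IsPGroup p ↥T ∧ A ≤ Subgroup.normalizer (T : Set G)

/-- maximal `A`-invariant `p`-subgroup -/
def IsMaxInvP (p : ℕ) {G : Type*} [Group G] (A Q : Subgroup G) : Prop :=
  IsInvP p A Q ∧ ∀ T : Subgroup G, IsInvP p A T → Q ≤ T → T = Q

end Cfsg.Agent.Lib.Helper3.S1936
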