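import Cfsg.Agent.Lib.Helper3.S1936.Defs
import Cfsg.Agent.S0144

/-!
# S1936 hive, leaf L04 (`FiveLe.lean`, helper78): a minimal counterexample has `5 ≤ p` and `p ∣ |G|`

Every prime `q ≠ p` dividing `|G|` divides `p - 1` (Cauchy + `Star` on the cyclic subgroup).  If `p ∤ |G|` then
`G` is commutative.  If `p = 2` the group is a `2`-group, if `p = 3` it has order `2 ^ a * 3 ^ b`; in both cases
it is solvable by Burnside's theorem (`Cfsg.Agent.S0144`).
-/

set_option autoImplicit false

universe u

namespace Cfsg.Agent.Lib.Helper3.S1936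

open Subgroup

variable {G : Type u} [Group G] [Finite G] {p : ℕ} [Fact p.Prime]

/-- primes other than `p` dividing `|G|` divide `p - 1` -/
theorem l04_prime_dvd (hstar : Star p G) {q : ℕ} (hq : q.Prime) (hqp : q ≠ p)
    (hdvd : q ∣ Nat.card G) : q ∣ p - 1 := by
  have := Fact.mk hq
  obtain ⟨x, hx⟩ := exists_prime_orderOf_dvd_card' q hdvd
  have hcard : Nat.card (zpowers x) = q := by rw [Nat.card_zpowers, hx]
  have hcop : (Nat.card (zpowers x)).Coprime p := by
    rw [hcard]
    exact (Nat.coprime_primes hq (Fact.out)).mpr hqp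
  have h1 := (hstar (zpowers x) hcop).2 x (mem_zpowers x)
  rw [← hx]
  exact orderOf_dvd_of_pow_eq_one h1

theorem five_le_and_dvd (hG : MinCex p G) : 5 ≤ p ∧ p ∣ Nat.card G := by
  have hp : p.Prime := Fact.out
  have hdvd : p ∣ Nat.card G := by
    by_contra h
    have hcop : (Nat.card G).Coprime p := ((Nat.Prime.coprime_iff_not_dvd hp).mpr h).symm
    have hcop' : (Nat.card (⊤ : Subgroup G)).Coprime p := by
      rw [Subgroup.card_top]; exact hcop
    have hc := (hG.star ⊤ hcop').1
    apply hG.nonsolv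
    apply Group.isSolvable_of_comm
    intro a b
    have := hc.is_comm.comm (⟨a, mem_top a⟩ : (⊤ : Subgroup G)) ⟨b, mem_top b⟩
    exact congrArg Subtype.val this
  refine ⟨?_, hdvd⟩
  by_contra h5
  have h5' : p < 5 := not_le.mp h5
  have hp23 : p = 2 ∨ p = 3 := by
    have h2 := hp.two_le
    interval_cases p
    · left; rfl
    · right; rfl
    · exact absurd hp (by norm_num)
  apply hG.nonsolv
  have hn0 : Nat.card G ≠ 0 := Nat.card_pos.ne'
  obtain ⟨a, m, hm2, hm⟩ := Nat.exists_eq_pow_mul_and_not_dvd hn0 2 (by norm_num)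
  have hm0 : m ≠ 0 := by
    rintro rfl
    exact hm2 (dvd_zero 2)
  have hm3 : ∀ {d : ℕ}, d.Prime → d ∣ m → d = 3 := by
    intro d hd hdm
    have hd2 : d ≠ 2 := by
      rintro rfl
      exact hm2 hdm
    have hdG : d ∣ Nat.card G := by
      rw [hm]; exact Dvd.dvd.mul_left hdm _
    rcases hp23 with rfl | rfl
    · have := l04_prime_dvd hG.star hd hd2 hdG
      have h1 : d ∣ 1 := this
      exact absurd (Nat.dvd_one.mp h1) hd.one_lt.ne'
    · by_contra hd3
      have := l04_prime_dvd hG.star hd hd3 hdG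
      have h1 : d ∣ 2 := this
      exact hd2 ((Nat.prime_dvd_prime_iff_eq hd Nat.prime_two).mp h1)
  have hm' := Nat.eq_prime_pow_of_unique_prime_dvd hm0 hm3
  exact Cfsg.Agent.S0144.result 2 3 a m.primeFactorsList.length Nat.prime_two Nat.prime_three
    (by rw [← hm']; exact hm)

end Cfsg.Agent.Lib.Helper3.S1936
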