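import Cfsg.Agent.Lib.Helper3.S1936.Defs

/-!
# S1936 hive, leaf L09 (helper49): a `p`-subgroup of `N(A)` acting fixed-point-freely on `A`

`S` = a Sylow `p`-subgroup of `N(A)`; `N(A) = A S` by cardinality, `A` is abelian, so an element of `A`
centralised by `S` is centralised by `N(A)`.
-/

set_option autoImplicit false

universe u

namespace Cfsg.Agent.Lib.Helper3.S1936

open Subgroup

variable {G : Type u} [Group G] [Finite G] {p : ℕ} [Fact p.Prime]

/-! ### L09 file `FixedPointFree.lean` (S = a Sylow p of N(A); N(A) = A S by cardinality) -/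
theorem exists_pgroup_fixedPointFree {A : Subgroup G}
    (hAc : ∀ x ∈ A, ∀ y ∈ A, x * y = y * x) (hAp : (Nat.card ↥A).Coprime p)
    (hF0N : ∃ k : ℕ, Nat.card ↥(normalizer (A : Set G)) = p ^ k * Nat.card ↥A)
    (hK3 : ∀ a ∈ A, (∀ n ∈ normalizer (A : Set G), n * a = a * n) → a = 1) :
    ∃ S : Subgroup G, IsPGroup p ↥S ∧ S ≤ normalizer (A : Set G) ∧
      ∀ a ∈ A, (∀ s ∈ S, s * a = a * s) → a = 1 := by
  classical
  obtain ⟨k, hk⟩ := hF0N
  have hp : p.Prime := Fact.out
  obtain ⟨P⟩ : Nonempty (Sylow p ↥(normalizer (A : Set G))) := inferInstance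
  refine ⟨(P : Subgroup ↥(normalizer (A : Set G))).map (normalizer (A : Set G)).subtype,
    P.2.map _, map_subtype_le _, ?_⟩
  have hScard : Nat.card ↥((P : Subgroup ↥(normalizer (A : Set G))).map (normalizer (A : Set G)).subtype) =
      p ^ k := by
    rw [Subgroup.card_map_of_injective (Subgroup.subtype_injective _), Sylow.card_eq_multiplicity, hk]
    congr 1
    have hA0 : Nat.card ↥A ≠ 0 := Nat.card_pos.ne'
    rw [Nat.factorization_mul (pow_ne_zero k hp.ne_zero) hA0, hp.factorization_pow]
    have h0 : (Nat.card ↥A).factorization p = 0 := by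
      apply Nat.factorization_eq_zero_of_not_dvd
      intro hd
      exact hp.one_lt.ne' (Nat.eq_one_of_dvd_coprimes hAp hd (dvd_refl p))
    simp [h0]
  intro a ha hS
  apply hK3 a ha
  set S := (P : Subgroup ↥(normalizer (A : Set G))).map (normalizer (A : Set G)).subtype with hSdef
  have hAC : A ≤ centralizer ({a} : Set G) := by
    intro x hx
    rw [mem_centralizer_iff]
    intro h hh
    rw [Set.mem_singleton_iff] at hh
    rw [hh]
    exact hAc a ha x hx
  have hSC : S ≤ centralizer ({a} : Set G) := by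
    intro x hx
    rw [mem_centralizer_iff]
    intro h hh
    rw [Set.mem_singleton_iff] at hh
    rw [hh]
    exact (hS x hx).symm
  have hle : A ⊔ S ≤ normalizer (A : Set G) := sup_le le_normalizer (map_subtype_le _)
  have hdvd : Nat.card ↥(normalizer (A : Set G)) ∣ Nat.card ↥(A ⊔ S) := by
    rw [hk, ← hScard]
    apply Nat.Coprime.mul_dvd_of_dvd_of_dvd
    · rw [hScard]
      exact (Nat.Coprime.pow_right k hAp).symm
    · exact Subgroup.card_dvd_of_le le_sup_right
    · exact Subgroup.card_dvd_of_le le_sup_left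
  have heq : A ⊔ S = normalizer (A : Set G) :=
    Subgroup.eq_of_le_of_card_ge hle (Nat.le_of_dvd Nat.card_pos hdvd)
  intro n hn
  rw [← heq] at hn
  have := (sup_le hAC hSC) hn
  rw [mem_centralizer_iff] at this
  exact (this a (Set.mem_singleton a)).symm
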