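import Cfsg.Agent.Lib.Helper3.S1936.Defs

/-!
# S1936 hive, leaf L06 (helper14): a maximal `p'`-subgroup of a minimal counterexample is a
Hall subgroup of `G` (its order is coprime to its index).
-/

set_option autoImplicit false

universe u

namespace Cfsg.Agent.Lib.Helper3.S1936

open Subgroup

variable {G : Type u} [Group G] [Finite G] {p : ℕ} [Fact p.Prime]

/-- L06 aux: in a minimal counterexample no nontrivial element is central. -/
theorem l06_centralizer_ne_top (hG : MinCex p G) {a : G} (ha : a ≠ 1) :
    centralizer ({a} : Set G) ≠ ⊤ := by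
  intro htop
  haveI := hG.simple
  have hac : a ∈ center G := by
    rw [Subgroup.mem_center_iff]
    intro g
    have hg : g ∈ centralizer ({a} : Set G) := by rw [htop]; exact mem_top g
    rw [Subgroup.mem_centralizer_iff] at hg
    exact (hg a rfl).symm
  rcases (Subgroup.Normal.eq_bot_or_eq_top (inferInstance : (center G).Normal)) with h | h
  · rw [h, Subgroup.mem_bot] at hac
    exact ha hac
  · apply hG.nonsolv
    haveI : IsMulCommutative G := ⟨⟨fun x y => by
      have hx : x ∈ center G := by rw [h]; exact mem_top x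
      rw [Subgroup.mem_center_iff] at hx
      exact (hx y).symm⟩⟩
    letI : CommGroup G := { (inferInstance : Group G) with mul_comm := mul_comm' }
    infer_instance

theorem coprime_index_of_isMaxPP (hG : MinCex p G) {A : Subgroup G} (hA : IsMaxPP p A)
    (hF0 : ∀ H : Subgroup G, H ≠ ⊤ → A ≤ H → ∃ k : ℕ, Nat.card ↥H = p ^ k * Nat.card ↥A) :
    (Nat.card ↥A).Coprime A.index := by
  by_contra hnc
  obtain ⟨q, hq, hqA, hqi⟩ := Nat.Prime.not_coprime_iff_dvd.mp hnc
  haveI : Fact q.Prime := ⟨hq⟩
  have hp : p.Prime := Fact.out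
  have hqp : q ≠ p := by
    rintro rfl
    have := hA.1
    exact hq.one_lt.ne' (Nat.eq_one_of_dvd_coprimes this hqA (dvd_refl q))
  -- an element of order q in A
  obtain ⟨a', ha'⟩ := exists_prime_orderOf_dvd_card' (G := ↥A) q hqA
  set a : G := (a' : G) with ha_def
  have haA : a ∈ A := a'.2
  have hao : orderOf a = q := by rw [ha_def, Subgroup.orderOf_coe]; exact ha'
  have ha1 : a ≠ 1 := by
    intro h
    rw [h, orderOf_one] at hao
    exact hq.one_lt.ne hao
  -- Sylow q-subgroup containing a
  have hzp : IsPGroup q ↥(zpowers a) := by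
    apply IsPGroup.of_card (n := 1)
    rw [Nat.card_zpowers, hao, pow_one]
  obtain ⟨S, hS⟩ := hzp.exists_le_sylow
  have haS : a ∈ (S : Subgroup G) := hS (mem_zpowers a)
  have hScard : Nat.card ↥(S : Subgroup G) = q ^ (Nat.card G).factorization q :=
    S.card_eq_multiplicity
  have hScop : (Nat.card ↥(S : Subgroup G)).Coprime p := by
    rw [hScard]
    exact Nat.Coprime.pow_left _ ((Nat.coprime_primes hq hp).mpr hqp)
  -- S and A are commutative
  have hSc := (hG.star (S : Subgroup G) hScop).1
  have hAc := (hG.star A hA.1).1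
  have hSle : (S : Subgroup G) ≤ centralizer ({a} : Set G) := by
    intro s hs
    rw [Subgroup.mem_centralizer_iff]
    intro x hx
    rw [Set.mem_singleton_iff] at hx
    subst hx
    have := @mul_comm' ↥(S : Subgroup G) _ hSc ⟨a, haS⟩ ⟨s, hs⟩
    exact congrArg Subtype.val this
  have hAle : A ≤ centralizer ({a} : Set G) := by
    intro s hs
    rw [Subgroup.mem_centralizer_iff]
    intro x hx
    rw [Set.mem_singleton_iff] at hx
    subst hx
    have := @mul_comm' ↥A _ hAc ⟨a, haA⟩ ⟨s, hs⟩
    exact congrArg Subtype.val this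
  obtain ⟨k, hk⟩ := hF0 _ (l06_centralizer_ne_top hG ha1) hAle
  have hdvd1 : Nat.card ↥(S : Subgroup G) ∣ p ^ k * Nat.card ↥A := by
    rw [← hk]; exact Subgroup.card_dvd_of_le hSle
  have hdvd2 : q ^ (Nat.card G).factorization q ∣ Nat.card ↥A := by
    rw [hScard] at hdvd1
    refine Nat.Coprime.dvd_of_dvd_mul_left ?_ hdvd1
    exact Nat.Coprime.pow _ _ ((Nat.coprime_primes hq hp).mpr hqp)
  have hdvd3 : q ^ ((Nat.card G).factorization q + 1) ∣ Nat.card G := by
    have h4 : q ^ (Nat.card G).factorization q * q ∣ Nat.card ↥A * A.index :=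
      Nat.mul_dvd_mul hdvd2 hqi
    rw [Subgroup.card_mul_index A] at h4
    rw [pow_succ]
    exact h4
  exact Nat.pow_succ_factorization_not_dvd Nat.card_pos.ne' hq hdvd3

end Cfsg.Agent.Lib.Helper3.S1936
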