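import Cfsg.Agent.Lib.Helper3.S1936.Defs
import Cfsg.Agent.S0005

/-!
# S1936 hive, leaf L05: a maximal `p'`-subgroup `A` inside a proper subgroup `H` of a minimal
counterexample is a Hall `p'`-subgroup of `H` (Hall dominance in the solvable group `H`).
-/

set_option autoImplicit false

universe u

namespace Cfsg.Agent.Lib.Helper3.S1936

open Subgroup

variable {G : Type u} [Group G] [Finite G] {p : ℕ} [Fact p.Prime]

theorem hallIn_of_isMaxPP (hG : MinCex p G) {A H : Subgroup G} (hA : IsMaxPP p A)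
    (hH : H ≠ ⊤) (hAH : A ≤ H) : ∃ k : ℕ, Nat.card ↥H = p ^ k * Nat.card ↥A := by
  have hp : p.Prime := Fact.out
  have hsol : Group.IsSolvable ↥H := hG.proper H hH
  have hpos : Nat.card ↥H ≠ 0 := Nat.card_pos.ne'
  obtain ⟨k, n, hn, hcard⟩ := Nat.exists_eq_pow_mul_and_not_dvd hpos p hp.ne_one
  have hnp : n.Coprime p := ((Nat.Prime.coprime_iff_not_dvd hp).mpr hn).symm
  have hcop : n.Coprime (p ^ k) := hnp.pow_right k
  have hK : (Nat.card ↥(A.subgroupOf H)).Coprime (p ^ k) := by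
    rw [Nat.card_congr (subgroupOfEquivOfLe hAH).toEquiv]
    exact hA.1.pow_right k
  obtain ⟨H', hH', hKH'⟩ := Cfsg.Agent.S0005.result n (p ^ k)
    (by rw [hcard, mul_comm]) hcop (A.subgroupOf H) hK
  have hB : Nat.card ↥(H'.map H.subtype) = n := by
    rw [← hH']
    exact Nat.card_congr (H'.equivMapOfInjective H.subtype H.subtype_injective).symm.toEquiv
  have hAB : A ≤ H'.map H.subtype := by
    intro a ha
    exact ⟨⟨a, hAH ha⟩, hKH' (by simpa [mem_subgroupOf] using ha), rfl⟩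
  have hBA := hA.2 (H'.map H.subtype) (by rw [hB]; exact hnp) hAB
  refine ⟨k, ?_⟩
  rw [hcard, ← hBA, hB]

end Cfsg.Agent.Lib.Helper3.S1936
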