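import Cfsg.Agent.Lib.Helper3.S1936.Defs

/-!
# S1936 hive, leaf L18 (`InvLine.lean`, helper97): a common eigenvector

An abelian group `A` of exponent dividing `p - 1` normalising a non-trivial `p`-group `T` normalises a subgroup of
order `p` of `T`.  `Z = Ω₁ Z(T)` is a vector space over `ZMod p`; one `a ∈ A` has `a ^ p = a` on it, its minimal
polynomial divides `X ^ p - X`, which splits over `ZMod p`, hence an eigenvector (`l18_lin`, `l18_comm`, `l18_key`);
eigenspaces are `A`-invariant since `A` is commutative; strong induction on the order (`l18_core`).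
-/

set_option autoImplicit false
set_option linter.style.haveILetI false

universe u

namespace Cfsg.Agent.Lib.Helper3.S1936

open Subgroup

variable {G : Type u} [Group G] [Finite G] {p : ℕ} [Fact p.Prime]

section lin
open Polynomial

theorem l18_lin {V : Type*} [AddCommGroup V] [Module (ZMod p) V] [Finite V] [Nontrivial V]
    (f : Module.End (ZMod p) V) (hf : f ^ p = f) :
    ∃ v : V, v ≠ 0 ∧ ∃ c : ZMod p, f v = c • v := by
  classical
  have hp1 : 1 < p := (Fact.out : p.Prime).one_lt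
  have hne : (X ^ p - X : (ZMod p)[X]) ≠ 0 := FiniteField.X_pow_card_sub_X_ne_zero _ hp1
  have hsplit : (X ^ p - X : (ZMod p)[X]).Splits := by
    rw [splits_iff_card_roots]
    have h1 := FiniteField.roots_X_pow_card_sub_X (ZMod p)
    rw [ZMod.card] at h1
    rw [h1, FiniteField.X_pow_card_sub_X_natDegree_eq _ hp1]
    simp [ZMod.card]
  have hdvd : minpoly (ZMod p) f ∣ X ^ p - X := minpoly.dvd _ _ (by simp [hf])
  have hs := hsplit.of_dvd hne hdvd
  have hint : IsIntegral (ZMod p) f := Algebra.IsIntegral.isIntegral f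
  have hdeg : (minpoly (ZMod p) f).degree ≠ 0 := (minpoly.degree_pos hint).ne'
  obtain ⟨c, hc⟩ := hs.exists_eval_eq_zero hdeg
  have hev := Module.End.hasEigenvalue_of_isRoot (f := f) hc
  obtain ⟨v, hv⟩ := hev.exists_hasEigenvector
  exact ⟨v, hv.2, c, hv.apply_eq_smul⟩

end lin

/-- commutative-group form of the eigenvector lemma -/
theorem l18_comm {M : Type*} [CommGroup M] [Finite M] [Nontrivial M] (hM : ∀ x : M, x ^ p = 1)
    (φ : M →* M) (hφ : ∀ x : M, φ^[p] x = φ x) : ∃ x : M, x ≠ 1 ∧ ∃ k : ℕ, φ x = x ^ k := by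
  haveI : Module (ZMod p) (Additive M) := AddCommGroup.zmodModule (n := p) (fun x => by
    change Additive.ofMul (x.toMul ^ p) = Additive.ofMul 1
    rw [hM])
  let f : Module.End (ZMod p) (Additive M) := (MonoidHom.toAdditive φ).toZModLinearMap p
  have hfapp : ∀ x : Additive M, f x = Additive.ofMul (φ x.toMul) := fun x => rfl
  have hiter : ∀ (n : ℕ) (x : Additive M), (⇑f)^[n] x = Additive.ofMul (φ^[n] x.toMul) := by
    intro n
    induction n with
    | zero => intro x; rfl
    | succ n ih =>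
      intro x
      rw [Function.iterate_succ_apply', Function.iterate_succ_apply', ih, hfapp]
      rfl
  have hf : f ^ p = f := by
    apply LinearMap.ext
    intro x
    rw [Module.End.pow_apply, hiter, hfapp, hφ]
  have : Finite (Additive M) := inferInstanceAs (Finite M)
  have : Nontrivial (Additive M) := inferInstanceAs (Nontrivial M)
  obtain ⟨v, hv0, c, hc⟩ := l18_lin f hf
  refine ⟨v.toMul, ?_, c.val, ?_⟩
  · intro h
    apply hv0
    exact congrArg Additive.ofMul h
  · rw [hfapp, ← ZMod.natCast_zmod_val c, Nat.cast_smul_eq_nsmul] at hc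
    have := congrArg Additive.toMul hc
    simpa using this

/-- one element: a common eigenvector for a single `a` -/
theorem l18_key {W : Subgroup G} (hWc : ∀ x ∈ W, ∀ y ∈ W, x * y = y * x) (hWp : ∀ x ∈ W, x ^ p = 1)
    (hW1 : W ≠ ⊥) {a : G} (haW : ∀ w ∈ W, a * w * a⁻¹ ∈ W) (hae : a ^ (p - 1) = 1) :
    ∃ w ∈ W, w ≠ 1 ∧ ∃ k : ℕ, a * w * a⁻¹ = w ^ k := by
  letI : CommGroup ↥W := { (inferInstance : Group ↥W) with
    mul_comm := fun x y => Subtype.ext (hWc x x.2 y y.2) }
  have hnt : Nontrivial ↥W := (Subgroup.nontrivial_iff_ne_bot W).2 hW1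
  let φ : ↥W →* ↥W :=
    { toFun := fun w => ⟨a * w * a⁻¹, haW w w.2⟩
      map_one' := by
        apply Subtype.ext
        simp
      map_mul' := by
        intro x y
        apply Subtype.ext
        simp [mul_assoc] }
  have hφapp : ∀ w : ↥W, ((φ w : ↥W) : G) = a * w * a⁻¹ := fun w => rfl
  have hiter : ∀ (n : ℕ) (w : ↥W), ((φ^[n] w : ↥W) : G) = a ^ n * w * (a ^ n)⁻¹ := by
    intro n
    induction n with
    | zero => intro w; simp
    | succ n ih =>
      intro w
      rw [Function.iterate_succ_apply', hφapp, ih, pow_succ', mul_inv_rev]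
      simp only [mul_assoc]
  have hp0 : p - 1 + 1 = p := Nat.sub_add_cancel (Fact.out : p.Prime).one_le
  have hap : a ^ p = a := by
    rw [← hp0, pow_succ, hae, one_mul]
  obtain ⟨x, hx1, k, hk⟩ := l18_comm (p := p) (M := ↥W)
    (fun x => Subtype.ext (hWp x x.2)) φ (fun w => Subtype.ext (by rw [hiter, hap, hφapp]))
  refine ⟨x, x.2, fun h => hx1 (Subtype.ext h), k, ?_⟩
  have := congrArg (Subtype.val) hk
  rw [hφapp] at this
  exact this

/-- the induction -/
theorem l18_core {A : Subgroup G} (hAc : ∀ x ∈ A, ∀ y ∈ A, x * y = y * x)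
    (hAe : ∀ x ∈ A, x ^ (p - 1) = 1) :
    ∀ (n : ℕ) (W : Subgroup G), Nat.card ↥W = n → W ≠ ⊥ → (∀ x ∈ W, ∀ y ∈ W, x * y = y * x) →
      (∀ x ∈ W, x ^ p = 1) → (∀ a ∈ A, ∀ w ∈ W, a * w * a⁻¹ ∈ W) →
      ∃ v ∈ W, v ≠ 1 ∧ ∀ a ∈ A, a * v * a⁻¹ ∈ zpowers v := by
  intro n
  induction n using Nat.strong_induction_on with
  | _ n ih =>
    intro W hn hW1 hWc hWp hAW
    by_cases hsc : ∀ a ∈ A, ∃ k : ℕ, ∀ w ∈ W, a * w * a⁻¹ = w ^ k
    · obtain ⟨v, hv⟩ := (Subgroup.ne_bot_iff_exists_ne_one).1 hW1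
      refine ⟨v, v.2, fun h => hv (Subtype.ext h), ?_⟩
      intro a ha
      obtain ⟨k, hk⟩ := hsc a ha
      rw [hk v v.2]
      exact pow_mem (mem_zpowers _) k
    · push Not at hsc
      obtain ⟨a, ha, hnon⟩ := hsc
      obtain ⟨w0, hw0W, hw01, k, hk⟩ := l18_key hWc hWp hW1 (hAW a ha) (hAe a ha)
      obtain ⟨w1, hw1W, hw1⟩ := hnon k
      let W' : Subgroup G :=
        { carrier := {w | w ∈ W ∧ a * w * a⁻¹ = w ^ k}
          one_mem' := ⟨one_mem W, by simp⟩
          mul_mem' := by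
            rintro x y ⟨hx, hx'⟩ ⟨hy, hy'⟩
            refine ⟨mul_mem hx hy, ?_⟩
            have hc : Commute x y := hWc x hx y hy
            rw [hc.mul_pow, ← hx', ← hy']
            simp [mul_assoc]
          inv_mem' := by
            rintro x ⟨hx, hx'⟩
            refine ⟨inv_mem hx, ?_⟩
            rw [inv_pow, ← hx']
            simp [mul_assoc] }
      have hW'W : W' ≤ W := fun w hw => hw.1
      have hlt : Nat.card ↥W' < n := by
        by_contra hge
        have hge' : Nat.card ↥W ≤ Nat.card ↥W' := by omega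
        have := Subgroup.eq_of_le_of_card_ge hW'W hge'
        have hw1' : w1 ∈ W' := this ▸ hw1W
        exact hw1 hw1'.2
      have hW'1 : W' ≠ ⊥ := by
        intro h
        have : w0 ∈ W' := ⟨hw0W, hk⟩
        rw [h, Subgroup.mem_bot] at this
        exact hw01 this
      obtain ⟨v, hvW', hv1, hv⟩ := ih (Nat.card ↥W') hlt W' rfl hW'1
        (fun x hx y hy => hWc x hx.1 y hy.1) (fun x hx => hWp x hx.1)
        (by
          intro b hb w hw
          refine ⟨hAW b hb w hw.1, ?_⟩
          have hab : a * b = b * a := hAc a ha b hb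
          calc a * (b * w * b⁻¹) * a⁻¹ = b * (a * w * a⁻¹) * b⁻¹ := by
                have h1 : a * (b * w * b⁻¹) * a⁻¹ = (a * b) * w * (a * b)⁻¹ := by
                  rw [mul_inv_rev]; simp only [mul_assoc]
                have h2 : b * (a * w * a⁻¹) * b⁻¹ = (b * a) * w * (b * a)⁻¹ := by
                  rw [mul_inv_rev]; simp only [mul_assoc]
                rw [h1, h2, hab]
            _ = b * w ^ k * b⁻¹ := by rw [hw.2]
            _ = (b * w * b⁻¹) ^ k := (conj_pow).symm)
      exact ⟨v, hW'W hvW', hv1, hv⟩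

/-- L18 -/
theorem exists_invariant_order_p {A T : Subgroup G}
    (hAc : ∀ x ∈ A, ∀ y ∈ A, x * y = y * x) (hAe : ∀ x ∈ A, x ^ (p - 1) = 1)
    (hT : IsInvP p A T) (hT1 : T ≠ ⊥) :
    ∃ v ∈ T, v ≠ 1 ∧ v ^ p = 1 ∧ ∀ a ∈ A, a * v * a⁻¹ ∈ zpowers v := by
  obtain ⟨hTp, hAT⟩ := hT
  have hconj : ∀ a ∈ A, ∀ t ∈ T, a * t * a⁻¹ ∈ T := by
    intro a ha t ht
    exact (Subgroup.mem_normalizer_iff.1 (hAT ha) t).1 ht
  have hconj' : ∀ a ∈ A, ∀ t ∈ T, a⁻¹ * t * a ∈ T := by
    intro a ha t ht
    have := hconj a⁻¹ (inv_mem ha) t ht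
    rwa [inv_inv] at this
  let Z : Subgroup G :=
    { carrier := {z | z ∈ T ∧ (∀ t ∈ T, t * z = z * t) ∧ z ^ p = 1}
      one_mem' := ⟨one_mem T, fun t _ => by simp, one_pow p⟩
      mul_mem' := by
        rintro x y ⟨hx, hxc, hxp⟩ ⟨hy, hyc, hyp⟩
        refine ⟨mul_mem hx hy, ?_, ?_⟩
        · intro t ht
          rw [← mul_assoc, hxc t ht, mul_assoc, hyc t ht, mul_assoc]
        · have hc : Commute x y := (hxc y hy).symm
          rw [hc.mul_pow, hxp, hyp, one_mul]
      inv_mem' := by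
        rintro x ⟨hx, hxc, hxp⟩
        refine ⟨inv_mem hx, ?_, ?_⟩
        · intro t ht
          have := hxc t ht
          calc t * x⁻¹ = x⁻¹ * (x * t) * x⁻¹ := by group
            _ = x⁻¹ * (t * x) * x⁻¹ := by rw [this]
            _ = x⁻¹ * t := by group
        · rw [inv_pow, hxp, inv_one] }
  have hZT : ∀ z ∈ Z, z ∈ T := fun z hz => hz.1
  have hZ1 : Z ≠ ⊥ := by
    have hnt : Nontrivial ↥T := (Subgroup.nontrivial_iff_ne_bot T).2 hT1
    have hcn : Nontrivial ↥(Subgroup.center ↥T) := hTp.center_nontrivial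
    have hpc : p ∣ Nat.card ↥(Subgroup.center ↥T) := by
      rcases (hTp.to_subgroup (Subgroup.center ↥T)).card_eq_or_dvd with h | h
      · exfalso
        have : Subsingleton ↥(Subgroup.center ↥T) := (Nat.card_eq_one_iff_unique.1 h).1
        exact not_subsingleton _ this
      · exact h
    obtain ⟨z, hz⟩ := exists_prime_orderOf_dvd_card' p hpc
    intro hbot
    have hzZ : ((z : ↥T) : G) ∈ Z := by
      refine ⟨(z : ↥T).2, ?_, ?_⟩
      · intro t ht
        have h1 := (Subgroup.mem_center_iff.1 z.2) ⟨t, ht⟩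
        exact congrArg Subtype.val h1
      · have h1 : z ^ p = 1 := by rw [← hz]; exact pow_orderOf_eq_one z
        have h2 := congrArg (fun w : ↥(Subgroup.center ↥T) => ((w : ↥T) : G)) h1
        simpa using h2
    rw [hbot, Subgroup.mem_bot] at hzZ
    have hz1 : z = 1 := by
      apply Subtype.ext
      apply Subtype.ext
      simpa using hzZ
    rw [hz1, orderOf_one] at hz
    exact (Fact.out : p.Prime).one_lt.ne hz
  obtain ⟨v, hvZ, hv1, hv⟩ := l18_core hAc hAe (Nat.card ↥Z) Z rfl hZ1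
    (fun x hx y hy => (hx.2.1 y hy.1).symm) (fun x hx => hx.2.2)
    (by
      intro a ha z hz
      refine ⟨hconj a ha z hz.1, ?_, ?_⟩
      · intro t ht
        have hs := hz.2.1 (a⁻¹ * t * a) (hconj' a ha t ht)
        calc t * (a * z * a⁻¹) = a * ((a⁻¹ * t * a) * z) * a⁻¹ := by group
          _ = a * (z * (a⁻¹ * t * a)) * a⁻¹ := by rw [hs]
          _ = a * z * a⁻¹ * t := by group
      · rw [conj_pow, hz.2.2, mul_one, mul_inv_cancel])
  exact ⟨v, hvZ.1, hv1, hvZ.2.2, hv⟩

end Cfsg.Agent.Lib.Helper3.S1936
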