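import Mathlib
import Cfsg.Agent.Lib.Helper3.S1936.Defs
import Cfsg.Agent.Lib.Helper32.S1936L16core
import Cfsg.Agent.Lib.Helper55.S1936L16e

/-! # S1936 hive (helper3), leaf L16 `local_structure` (helper32; Frattini part L16e by helper55) -/

set_option autoImplicit false

universe u

namespace Cfsg.Agent.Lib.Helper3.S1936

open Subgroup

variable {G : Type u} [Group G] [Finite G] {p : ℕ} [Fact p.Prime]

/-! ### L16 file `LocalStructure.lean` (the local lemma (D), see board) -/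
theorem local_structure
    (hquot : ∀ (X : Type u) [Group X] [Finite X] (N : Subgroup X) [N.Normal],
      Star p X → Star p (X ⧸ N))
    (hG : MinCex p G) {A H : Subgroup G} (hA : IsMaxPP p A) (hH : H ≠ ⊤) (hAH : A ≤ H)
    (hF0 : ∃ k : ℕ, Nat.card ↥H = p ^ k * Nat.card ↥A) :
    ∃ R : Subgroup G, R ≤ H ∧ IsPGroup p ↥R ∧ H ≤ normalizer (R : Set G) ∧
      H ≤ normalizer ((R ⊔ A : Subgroup G) : Set G) ∧
      (∀ T : Subgroup G, T ≤ H → IsPGroup p ↥T → A ≤ normalizer (T : Set G) → T ≤ R) ∧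
      (∀ T : Subgroup G, T ≤ R ⊔ A → IsPGroup p ↥T → T ≤ R) ∧
      (∀ h ∈ H, ∃ r ∈ R, h * r ∈ normalizer (A : Set G)) := by
  obtain ⟨R, hRH, hRp, hHR, hHRA, hinv, hsyl⟩ := l16_core hquot hG hA hH hAH hF0
  exact ⟨R, hRH, hRp, hHR, hHRA, hinv, hsyl,
    l16_frattini (hG.proper H hH) hAH hRH hRp hA.1 hHR hHRA⟩

end Cfsg.Agent.Lib.Helper3.S1936
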