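import Mathlib
import Cfsg.Agent.Lib.Helper3.S1936.Defs
import Cfsg.Agent.Lib.Helper48.CoprimeGen

/-!
# S1936 hive, leaf L20: coprime generation by a noncyclic abelian `p'`-group

A noncyclic abelian group contains two independent elements of the same prime order `r`;
then `Cfsg.Agent.Lib.Helper48.coprime_gen` gives `P = ⟨C_P(c) : c ∈ ⟨a, b⟩#⟩`.
-/

set_option autoImplicit false

universe u

namespace Cfsg.Agent.Lib.Helper3.S1936

open Subgroup

/-- a noncyclic finite abelian group has two independent elements of the same prime order -/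
theorem l20_exists_indep {A : Type*} [CommGroup A] [Finite A] (h : ¬ IsCyclic A) :
    ∃ (r : ℕ) (a b : A), r.Prime ∧ a ^ r = 1 ∧ b ^ r = 1 ∧ b ≠ 1 ∧ a ∉ Subgroup.zpowers b := by
  classical
  obtain ⟨g, hg⟩ := Monoid.exists_orderOf_eq_exponent (G := A) Monoid.ExponentExists.of_finite
  obtain ⟨e, he⟩ : ∃ e, e = Monoid.exponent A := ⟨_, rfl⟩
  rw [← he] at hg
  have hZ : Subgroup.zpowers g ≠ ⊤ := by
    intro htop
    exact h (isCyclic_iff_exists_zpowers_eq_top.mpr ⟨g, htop⟩)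
  obtain ⟨x, hx⟩ : ∃ x, x ∉ Subgroup.zpowers g := by
    by_contra hcon
    push Not at hcon
    exact hZ (eq_top_iff.mpr fun x _ => hcon x)
  have hex : ∃ m, 0 < m ∧ x ^ m ∈ Subgroup.zpowers g :=
    ⟨orderOf x, orderOf_pos x, by rw [pow_orderOf_eq_one]; exact one_mem _⟩
  obtain ⟨hm0, hmZ⟩ := Nat.find_spec hex
  have hmin : ∀ j, j < Nat.find hex → ¬ (0 < j ∧ x ^ j ∈ Subgroup.zpowers g) :=
    fun j hj => Nat.find_min hex hj
  obtain ⟨m, hm⟩ : ∃ m, m = Nat.find hex := ⟨_, rfl⟩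
  rw [← hm] at hm0 hmZ hmin
  have hm1 : m ≠ 1 := by
    intro h1
    rw [h1, pow_one] at hmZ
    exact hx hmZ
  have hr : (m.minFac).Prime := Nat.minFac_prime hm1
  obtain ⟨m', hm'⟩ : m.minFac ∣ m := Nat.minFac_dvd m
  obtain ⟨r, hrdef⟩ : ∃ r, r = m.minFac := ⟨_, rfl⟩
  rw [← hrdef] at hr hm'
  have hm'0 : 0 < m' := by
    rcases Nat.eq_zero_or_pos m' with h0 | h0
    · rw [h0, mul_zero] at hm'; omega
    · exact h0
  have hm'lt : m' < m := by
    have := hr.two_le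
    nlinarith
  have hx' : x ^ m' ∉ Subgroup.zpowers g := fun hcon => hmin m' hm'lt ⟨hm'0, hcon⟩
  have hx'r : (x ^ m') ^ r ∈ Subgroup.zpowers g := by
    rw [← pow_mul, mul_comm, ← hm']; exact hmZ
  obtain ⟨x', hx'def⟩ : ∃ x', x' = x ^ m' := ⟨_, rfl⟩
  rw [← hx'def] at hx' hx'r
  have hro : r ∣ orderOf x' := by
    by_contra hnd
    have hcop : Nat.Coprime r (orderOf x') := (Nat.Prime.coprime_iff_not_dvd hr).mpr hnd
    have hb := Nat.gcd_eq_gcd_ab r (orderOf x')
    rw [hcop] at hb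
    have hmem : x' ∈ Subgroup.zpowers (x' ^ r) := by
      have h1 : x' ^ ((1 : ℕ) : ℤ) = x' ^ ((r : ℤ) * Nat.gcdA r (orderOf x') +
          (orderOf x' : ℤ) * Nat.gcdB r (orderOf x')) := by rw [← hb]
      rw [Nat.cast_one, zpow_one, zpow_add, zpow_mul, zpow_mul, zpow_natCast, zpow_natCast,
        pow_orderOf_eq_one, one_zpow, mul_one] at h1
      have h2 : (x' ^ r) ^ (Nat.gcdA r (orderOf x')) ∈ Subgroup.zpowers (x' ^ r) :=
        Subgroup.zpow_mem_zpowers _ _
      rwa [← h1] at h2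
    exact hx' ((Subgroup.zpowers_le.mpr hx'r) hmem)
  have hoe : orderOf x' ∣ e := by rw [he]; exact Monoid.order_dvd_exponent x'
  obtain ⟨e', he'⟩ := hro.trans hoe
  have he0 : 0 < e := by rw [← hg]; exact orderOf_pos g
  have he'0 : 0 < e' := by
    rcases Nat.eq_zero_or_pos e' with h0 | h0
    · rw [h0, mul_zero] at he'; omega
    · exact h0
  obtain ⟨k, hk⟩ : ∃ k : ℕ, g ^ k = x' ^ r := by
    have := (mem_powers_iff_mem_zpowers (x := g) (y := x' ^ r)).mpr hx'r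
    exact (Submonoid.mem_powers_iff _ _).mp this
  have hrk : r ∣ k := by
    have h1 : g ^ (k * e') = 1 := by
      rw [pow_mul, hk, ← pow_mul, ← he', he]
      exact Monoid.pow_exponent_eq_one x'
    have h2 : e ∣ k * e' := by rw [← hg]; exact orderOf_dvd_of_pow_eq_one h1
    rw [he'] at h2
    exact Nat.dvd_of_mul_dvd_mul_right he'0 h2
  obtain ⟨k', hk'⟩ := hrk
  refine ⟨r, x' * (g ^ k')⁻¹, g ^ e', hr, ?_, ?_, ?_, ?_⟩
  · rw [mul_pow, inv_pow, ← pow_mul g, mul_comm k' r, ← hk', hk, mul_inv_cancel]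
  · rw [← pow_mul, mul_comm, ← he', ← hg]; exact pow_orderOf_eq_one g
  · intro h1
    have h2 := orderOf_dvd_of_pow_eq_one h1
    rw [hg, he'] at h2
    have h3 := Nat.le_of_dvd he'0 h2
    have := hr.two_le
    nlinarith
  · intro hmem
    apply hx'
    have hyZ : x' * (g ^ k')⁻¹ ∈ Subgroup.zpowers g :=
      (Subgroup.zpowers_le.mpr (Subgroup.pow_mem _ (Subgroup.mem_zpowers g) _)) hmem
    have h4 : x' = x' * (g ^ k')⁻¹ * g ^ k' := by group
    rw [h4]
    exact Subgroup.mul_mem _ hyZ (Subgroup.pow_mem _ (Subgroup.mem_zpowers g) _)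

variable {G : Type u} [Group G] [Finite G] {p : ℕ} [Fact p.Prime]

/-- coprime generation for a subgroup `Q` normalized by commuting `a`, `b` of order dividing `r`
(transfer of `Helper48.coprime_gen` from the normalizer of `Q`). -/
theorem l20_le_genSub {r : ℕ} [Fact r.Prime] (Q : Subgroup G) (a b : G)
    (ha : a ^ r = 1) (hb : b ^ r = 1) (hab : a * b = b * a)
    (haQ : a ∈ normalizer (Q : Set G)) (hbQ : b ∈ normalizer (Q : Set G))
    (hQ : ¬ r ∣ Nat.card Q) : Q ≤ Cfsg.Agent.Lib.Helper48.genSub Q a b := by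
  set G₁ := normalizer (Q : Set G) with hG₁
  have hQG : Q ≤ G₁ := le_normalizer
  haveI : (Q.subgroupOf G₁).Normal := normal_in_normalizer
  have hcard : Nat.card (Q.subgroupOf G₁) = Nat.card Q :=
    Nat.card_congr (subgroupOfEquivOfLe hQG).toEquiv
  have hnd : ¬ r ∣ Nat.card (Q.subgroupOf G₁) := by rw [hcard]; exact hQ
  have h1 : (⟨a, haQ⟩ : G₁) ^ r = 1 := Subtype.ext (by simpa using ha)
  have h2 : (⟨b, hbQ⟩ : G₁) ^ r = 1 := Subtype.ext (by simpa using hb)
  have h12 : (⟨a, haQ⟩ : G₁) * ⟨b, hbQ⟩ = ⟨b, hbQ⟩ * ⟨a, haQ⟩ := Subtype.ext hab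
  have hgen := Cfsg.Agent.Lib.Helper48.coprime_gen (Q.subgroupOf G₁) (⟨a, haQ⟩ : G₁) ⟨b, hbQ⟩
    h1 h2 h12 hnd
  exact Cfsg.Agent.Lib.Helper48.genSub_transfer_subgroup G₁ Q a b haQ hbQ hQG hgen

theorem le_of_not_isCyclic {B P H : Subgroup G}
    (hBc : ∀ x ∈ B, ∀ y ∈ B, x * y = y * x) (hBp : (Nat.card ↥B).Coprime p)
    (hP : IsPGroup p ↥P) (hBP : B ≤ normalizer (P : Set G)) (hnc : ¬ IsCyclic ↥B)
    (hH : ∀ b ∈ B, b ≠ 1 → P ⊓ centralizer ({b} : Set G) ≤ H) : P ≤ H := by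
  classical
  letI : CommGroup ↥B :=
    { (inferInstance : Group ↥B) with
      mul_comm := fun x y => Subtype.ext (hBc x x.2 y y.2) }
  obtain ⟨r, a, b, hr, har, hbr, hb1, hab⟩ := l20_exists_indep (A := ↥B) hnc
  haveI : Fact r.Prime := ⟨hr⟩
  -- r ≠ p
  have hrp : ¬ r ∣ Nat.card P := by
    obtain ⟨k, hk⟩ := IsPGroup.iff_card.mp hP
    rw [hk]
    intro hdvd
    have hrp' : r = p := (Nat.prime_dvd_prime_iff_eq hr (Fact.out : p.Prime)).mp
      (hr.dvd_of_dvd_pow hdvd)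
    have hob : orderOf b = r := orderOf_eq_prime hbr hb1
    have hdB : r ∣ Nat.card ↥B := by rw [← hob]; exact orderOf_dvd_natCard b
    rw [hrp'] at hdB
    have hp : p.Prime := Fact.out
    have := Nat.Coprime.eq_one_of_dvd hBp.symm hdB
    exact hp.one_lt.ne' this
  have haG : (a : G) ^ r = 1 := by
    have := congrArg (Subtype.val) har
    simpa using this
  have hbG : (b : G) ^ r = 1 := by
    have := congrArg (Subtype.val) hbr
    simpa using this
  have hcomm : (a : G) * (b : G) = (b : G) * (a : G) := hBc _ a.2 _ b.2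
  have hgen := l20_le_genSub P (a : G) (b : G) haG hbG hcomm (hBP a.2) (hBP b.2) hrp
  refine hgen.trans ?_
  unfold Cfsg.Agent.Lib.Helper48.genSub
  apply iSup₂_le
  intro c hc
  have hcB : c ∈ B := by
    rcases hc with rfl | ⟨n, rfl⟩
    · exact b.2
    · exact B.mul_mem a.2 (B.pow_mem b.2 n)
  have hc1 : c ≠ 1 := by
    rcases hc with rfl | ⟨n, rfl⟩
    · intro h1
      exact hb1 (Subtype.ext h1)
    · intro h1
      apply hab
      have h2 : a = (b ^ n)⁻¹ := by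
        apply Subtype.ext
        have : (a : G) = ((b : G) ^ n)⁻¹ := eq_inv_of_mul_eq_one_left h1
        simpa using this
      rw [h2]
      exact Subgroup.inv_mem _ (Subgroup.pow_mem _ (Subgroup.mem_zpowers b) n)
  exact hH c hcB hc1

end Cfsg.Agent.Lib.Helper3.S1936
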