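import Cfsg.Agent.Lib.Helper3.S1936.Defs

/-! # S1936 hive (helper3), leaf L13 (helper61): a `p'`-complement of a Sylow `p`-subgroup in its
normalizer (Schur-Zassenhaus inside `N(P)`). -/

set_option autoImplicit false

universe u

namespace Cfsg.Agent.Lib.Helper3.S1936

open Subgroup

variable {G : Type u} [Group G] [Finite G] {p : ℕ} [Fact p.Prime]

/-! ### L13 file `SylowCompl.lean` (Mathlib Schur-Zassenhaus inside N(P)) -/
theorem exists_sylow_complement (P : Sylow p G) :
    ∃ B : Subgroup G, (Nat.card ↥B).Coprime p ∧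
      B ≤ normalizer ((P : Subgroup G) : Set G) ∧
      normalizer ((P : Subgroup G) : Set G) ≤ (P : Subgroup G) ⊔ B ∧
      Nat.card ↥(normalizer ((P : Subgroup G) : Set G)) =
        Nat.card ↥(P : Subgroup G) * Nat.card ↥B := by
  have hp : p.Prime := Fact.out
  set N : Subgroup G := normalizer ((P : Subgroup G) : Set G) with hN
  have hPN : (P : Subgroup G) ≤ N := le_normalizer
  haveI : ((P : Subgroup G).subgroupOf N).Normal := normal_in_normalizer
  -- the order of `P` in `N` and its index are coprime
  have hcardP : Nat.card ↥((P : Subgroup G).subgroupOf N) = Nat.card ↥(P : Subgroup G) :=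
    Nat.card_congr (subgroupOfEquivOfLe hPN).toEquiv
  have hidx : ((P : Subgroup G).subgroupOf N).index = (P : Subgroup G).relIndex N := rfl
  have hdvd : (P : Subgroup G).relIndex N ∣ (P : Subgroup G).index := relIndex_dvd_index_of_le hPN
  have hcop0 : (Nat.card ↥(P : Subgroup G)).Coprime (P : Subgroup G).index := P.card_coprime_index
  have hcop : (Nat.card ↥((P : Subgroup G).subgroupOf N)).Coprime ((P : Subgroup G).subgroupOf N).index := by
    rw [hcardP, hidx]
    exact Nat.Coprime.coprime_dvd_right hdvd hcop0
  obtain ⟨H, hH⟩ := exists_right_complement'_of_coprime hcop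
  refine ⟨H.map N.subtype, ?_, ?_, ?_, ?_⟩
  · -- `|B| = [N : P]` is prime to `p`
    have hcardB : Nat.card ↥(H.map N.subtype) = Nat.card ↥H :=
      Nat.card_congr (H.equivMapOfInjective N.subtype N.subtype_injective).symm.toEquiv
    have hmul := hH.card_mul_card
    have hidx2 : Nat.card ↥H = ((P : Subgroup G).subgroupOf N).index := by
      have h1 := ((P : Subgroup G).subgroupOf N).card_mul_index
      have hpos : 0 < Nat.card ↥((P : Subgroup G).subgroupOf N) := Nat.card_pos
      exact Nat.eq_of_mul_eq_mul_left hpos (hmul.trans h1.symm)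
    rw [hcardB, hidx2, hidx]
    have hnd : ¬ p ∣ (P : Subgroup G).relIndex N := fun h => P.not_dvd_index (h.trans hdvd)
    exact ((Nat.Prime.coprime_iff_not_dvd hp).mpr hnd).symm
  · exact map_subtype_le H
  · -- `N = P B`
    have hsup := hH.sup_eq_top
    have h1 : (((P : Subgroup G).subgroupOf N) ⊔ H).map N.subtype = N := by
      rw [hsup, ← MonoidHom.range_eq_map, N.range_subtype]
    rw [Subgroup.map_sup] at h1
    have h2 : ((P : Subgroup G).subgroupOf N).map N.subtype ≤ (P : Subgroup G) := by
      rw [subgroupOf_map_subtype]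
      exact inf_le_left
    calc N = ((P : Subgroup G).subgroupOf N).map N.subtype ⊔ H.map N.subtype := h1.symm
      _ ≤ (P : Subgroup G) ⊔ H.map N.subtype := sup_le_sup_right h2 _
  · have hcardB : Nat.card ↥(H.map N.subtype) = Nat.card ↥H :=
      Nat.card_congr (H.equivMapOfInjective N.subtype N.subtype_injective).symm.toEquiv
    rw [hcardB, ← hcardP]
    exact hH.card_mul_card.symm

end Cfsg.Agent.Lib.Helper3.S1936
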