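import Mathlib
import Cfsg.Agent.S0004
import Cfsg.Agent.Lib.Helper3.S1936.Defs

/-!
# S1936 hive (helper3), leaf L08: an element of `A` central in `N_G(A)` is trivial

`N_G(A)` controls fusion in the abelian Hall subgroup `A` (Hall conjugacy in the solvable group `C_G(b')`),
so the transfer `G → A` is `a ↦ a ^ |G : A|` on such an element; `G` is perfect.
-/

set_option autoImplicit false

universe u

namespace Cfsg.Agent.Lib.Helper3.S1936

open Subgroup
open Pointwise
open scoped commutatorElement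

variable {G : Type u} [Group G] [Finite G] {p : ℕ} [Fact p.Prime]

omit [Finite G] [Fact p.Prime] in
/-- a minimal counterexample has trivial centre -/
theorem l08_center_eq_bot (hG : MinCex p G) : Subgroup.center G = ⊥ := by
  have := hG.simple
  rcases (inferInstance : (Subgroup.center G).Normal).eq_bot_or_eq_top with h | h
  · exact h
  · exfalso
    apply hG.nonsolv
    have : IsMulCommutative G := ⟨⟨fun x y => by
      have hx : x ∈ Subgroup.center G := by rw [h]; exact Subgroup.mem_top x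
      exact ((Subgroup.mem_center_iff.mp hx) y).symm⟩⟩
    open scoped IsMulCommutative in
    exact Group.isSolvable_of_comm (fun x y => mul_comm x y)

omit [Finite G] [Fact p.Prime] in
/-- a minimal counterexample is perfect -/
theorem l08_commutator_eq_top (hG : MinCex p G) : _root_.commutator G = ⊤ := by
  have := hG.simple
  rcases (inferInstance : (_root_.commutator G).Normal).eq_bot_or_eq_top with h | h
  · exfalso
    apply hG.nonsolv
    refine Group.isSolvable_of_comm (fun x y => ?_)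
    have h1 : ⁅x, y⁆ ∈ _root_.commutator G := by
      rw [_root_.commutator_def]
      exact Subgroup.commutator_mem_commutator (Subgroup.mem_top x) (Subgroup.mem_top y)
    rw [h, Subgroup.mem_bot] at h1
    exact commutatorElement_eq_one_iff_mul_comm.mp h1
  · exact h

/-- fusion in `A` is controlled by `N_G(A)`: a `G`-conjugate `b' ∈ A` of a power `b` of `a` equals `b` -/
theorem l08_fusion (hG : MinCex p G)
    (hF0 : ∀ B H : Subgroup G, IsMaxPP p B → H ≠ ⊤ → B ≤ H →
      ∃ k : ℕ, Nat.card ↥H = p ^ k * Nat.card ↥B)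
    {A : Subgroup G} (hA : IsMaxPP p A)
    {a : G} (haA : a ∈ A) (hc : ∀ n ∈ normalizer (A : Set G), n * a = a * n)
    (k : ℕ) (g₀ : G) (hmem : g₀⁻¹ * a ^ k * g₀ ∈ A) : g₀⁻¹ * a ^ k * g₀ = a ^ k := by
  have hp : p.Prime := Fact.out
  set b : G := a ^ k with hb
  set b' : G := g₀⁻¹ * b * g₀ with hb'
  have hbA : b ∈ A := A.pow_mem haA k
  have hAcomm : ∀ x ∈ A, ∀ y ∈ A, x * y = y * x := by
    intro x hx y hy
    have := (hG.star A hA.1).1
    exact congrArg Subtype.val (this.is_comm.comm ⟨x, hx⟩ ⟨y, hy⟩)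
  have hbb' : b = g₀ * b' * g₀⁻¹ := by rw [hb']; group
  by_cases hb1 : b' = 1
  · rw [hb1]
    rw [hb1] at hbb'
    rw [hbb']; group
  -- the centralizer of `b'`
  set C : Subgroup G := centralizer ({b'} : Set G) with hC
  have hCtop : C ≠ ⊤ := by
    intro htop
    apply hb1
    have : b' ∈ Subgroup.center G := by
      rw [Subgroup.mem_center_iff]
      intro g
      have hg : g ∈ C := by rw [htop]; exact Subgroup.mem_top g
      exact (mem_centralizer_iff.mp hg b' rfl).symm
    rw [l08_center_eq_bot hG, Subgroup.mem_bot] at this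
    exact this
  have hAC : A ≤ C := by
    intro x hx
    rw [hC, mem_centralizer_iff]
    intro y hy
    rw [Set.mem_singleton_iff] at hy
    subst hy
    exact hAcomm _ hmem x hx
  set A' : Subgroup G := A.map (MulAut.conj g₀⁻¹).toMonoidHom with hA'
  have hA'C : A' ≤ C := by
    intro x hx
    obtain ⟨y, hy, rfl⟩ := hx
    rw [hC, mem_centralizer_iff]
    intro z hz
    rw [Set.mem_singleton_iff] at hz
    subst hz
    have h1 := hAcomm b hbA y hy
    simp only [MulEquiv.coe_toMonoidHom, MulAut.conj_apply, inv_inv]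
    calc g₀⁻¹ * b * g₀ * (g₀⁻¹ * y * g₀) = g₀⁻¹ * (b * y) * g₀ := by group
      _ = g₀⁻¹ * (y * b) * g₀ := by rw [h1]
      _ = g₀⁻¹ * y * g₀ * (g₀⁻¹ * b * g₀) := by group
  obtain ⟨e, he⟩ := hF0 A C hA hCtop hAC
  have : Group.IsSolvable ↥C := hG.proper C hCtop
  have hcardC : Nat.card ↥C = Nat.card ↥A * p ^ e := by rw [he, mul_comm]
  have hcop : (Nat.card ↥A).Coprime (p ^ e) := Nat.Coprime.pow_right e hA.1
  have hH : Nat.card ↥(A.subgroupOf C) = Nat.card ↥A :=
    Nat.card_congr (Subgroup.subgroupOfEquivOfLe hAC).toEquiv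
  have hA'card : Nat.card ↥A' = Nat.card ↥A :=
    Subgroup.card_map_of_injective (MulAut.conj g₀⁻¹).injective
  have hK : Nat.card ↥(A'.subgroupOf C) = Nat.card ↥A := by
    rw [← hA'card]
    exact Nat.card_congr (Subgroup.subgroupOfEquivOfLe hA'C).toEquiv
  obtain ⟨c, hcconj⟩ := Cfsg.Agent.S0004.result (G := ↥C) (Nat.card ↥A) (p ^ e) hcardC hcop
    (A.subgroupOf C) (A'.subgroupOf C) hH hK
  -- `n = g₀ c` normalizes `A`
  set n : G := g₀ * (c : G) with hn
  have hnA : ∀ x ∈ A, n * x * n⁻¹ ∈ A := by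
    intro x hx
    have hxC : x ∈ C := hAC hx
    have h1 : (⟨x, hxC⟩ : ↥C) ∈ A.subgroupOf C := Subgroup.mem_subgroupOf.mpr hx
    have h2 : MulAut.conj c • (⟨x, hxC⟩ : ↥C) ∈ MulAut.conj c • A.subgroupOf C :=
      Subgroup.smul_mem_pointwise_smul _ _ _ h1
    rw [hcconj, Subgroup.mem_subgroupOf] at h2
    have h3 : (c : G) * x * (c : G)⁻¹ ∈ A' := by
      simpa [MulAut.smul_def] using h2
    obtain ⟨y, hy, hyx⟩ := h3
    simp only [MulEquiv.coe_toMonoidHom, MulAut.conj_apply, inv_inv] at hyx
    have : n * x * n⁻¹ = y := by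
      rw [hn]
      calc g₀ * (c : G) * x * (g₀ * (c : G))⁻¹ = g₀ * ((c : G) * x * (c : G)⁻¹) * g₀⁻¹ := by group
        _ = g₀ * (g₀⁻¹ * y * g₀) * g₀⁻¹ := by rw [hyx]
        _ = y := by group
    rw [this]; exact hy
  have hnN : n ∈ normalizer (A : Set G) := by
    rw [mem_normalizer_iff_map_conj_eq]
    apply Subgroup.eq_of_le_of_card_ge
    · intro z hz
      obtain ⟨x, hx, rfl⟩ := hz
      simpa [MulAut.conj_apply] using hnA x hx
    · rw [Subgroup.card_map_of_injective (MulAut.conj n).injective]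
  have hna : n * a = a * n := hc n hnN
  have hnb : n * b = b * n := by
    have : Commute n a := hna
    exact (this.pow_right k)
  -- `c` commutes with `b'`
  have hcb' : b' * (c : G) = (c : G) * b' := mem_centralizer_iff.mp c.2 b' rfl
  have h4 : n * b' = b * n := by
    rw [hn, hbb']
    calc g₀ * (c : G) * b' = g₀ * (b' * (c : G)) := by rw [hcb']; group
      _ = g₀ * b' * g₀⁻¹ * (g₀ * (c : G)) := by group
  have h5 : n * b' = n * b := by rw [h4, hnb]
  exact mul_left_cancel h5

/-- L08. -/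
theorem eq_one_of_central_in_normalizer (hG : MinCex p G)
    (hF0 : ∀ B H : Subgroup G, IsMaxPP p B → H ≠ ⊤ → B ≤ H →
      ∃ k : ℕ, Nat.card ↥H = p ^ k * Nat.card ↥B)
    {A : Subgroup G} (hA : IsMaxPP p A) (hF1 : (Nat.card ↥A).Coprime A.index)
    {a : G} (haA : a ∈ A) (hc : ∀ n ∈ normalizer (A : Set G), n * a = a * n) : a = 1 := by
  have : IsMulCommutative ↥A := (hG.star A hA.1).1
  open scoped IsMulCommutative in
  have key : ∀ (k : ℕ) (g₀ : G), g₀⁻¹ * a ^ k * g₀ ∈ A → g₀⁻¹ * a ^ k * g₀ = a ^ k :=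
    fun k g₀ h => l08_fusion hG hF0 hA haA hc k g₀ h
  open scoped IsMulCommutative in
  have h1 := MonoidHom.transfer_eq_pow (MonoidHom.id ↥A) a key
  open scoped IsMulCommutative in
  have h2 : MonoidHom.transfer (MonoidHom.id ↥A) a = 1 := by
    have hker := Abelianization.commutator_subset_ker (MonoidHom.transfer (MonoidHom.id ↥A))
    rw [l08_commutator_eq_top hG] at hker
    exact MonoidHom.mem_ker.mp (hker (Subgroup.mem_top a))
  rw [h2] at h1
  have h3 : a ^ A.index = 1 := by
    have := congrArg Subtype.val h1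
    simpa using this.symm
  have h4 : orderOf a ∣ A.index := orderOf_dvd_of_pow_eq_one h3
  have h5 : orderOf a ∣ Nat.card ↥A := by
    have := orderOf_dvd_natCard (⟨a, haA⟩ : ↥A)
    rwa [Subgroup.orderOf_mk] at this
  have h6 : orderOf a = 1 := Nat.eq_one_of_dvd_coprimes hF1 h5 h4
  exact orderOf_eq_one_iff.mp h6

end Cfsg.Agent.Lib.Helper3.S1936
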