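import Cfsg.Agent.Lib.Helper3.S1936.Uniq
import Cfsg.Agent.Lib.Helper3.S1936.FiveLe
import Cfsg.Agent.Lib.Helper3.S1936.HallIn
import Cfsg.Agent.Lib.Helper3.S1936.HallG
import Cfsg.Agent.Lib.Helper3.S1936.CommonPrime
import Cfsg.Agent.Lib.Helper3.S1936.Transfer
import Cfsg.Agent.Lib.Helper3.S1936.FixedPointFree
import Cfsg.Agent.Lib.Helper3.S1936.CardModEq
import Cfsg.Agent.Lib.Helper3.S1936.CardProd
import Cfsg.Agent.Lib.Helper3.S1936.SylowCompl
import Cfsg.Agent.Lib.Helper3.S1936.ComplNeBot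
import Cfsg.Agent.Lib.Helper3.S1936.ComplNotCyclic
import Cfsg.Agent.Lib.Helper3.S1936.NonCyclicGen
import Cfsg.Agent.Lib.Helper3.S1936.CommCore

/-!
# S1936 hive: there is no minimal counterexample (final assembly)
-/

set_option autoImplicit false
set_option linter.unusedSectionVars false

universe u

namespace Cfsg.Agent.Lib.Helper3.S1936

open Subgroup

variable {G : Type u} [Group G] [Finite G] {p : ℕ} [Fact p.Prime]

theorem mn_comm_of_star (hstar : Star p G) {A : Subgroup G} (hA : (Nat.card ↥A).Coprime p) :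
    ∀ x ∈ A, ∀ y ∈ A, x * y = y * x := by
  obtain ⟨hAcomm, -⟩ := hstar A hA
  intro x hx y hy
  have := hAcomm.is_comm.comm (⟨x, hx⟩ : ↥A) ⟨y, hy⟩
  exact congrArg Subtype.val this

theorem mn_inf_eq_bot {R A : Subgroup G} (hR : IsPGroup p ↥R) (hA : (Nat.card ↥A).Coprime p) :
    R ⊓ A = ⊥ := by
  have h1 : IsPGroup p ↥(R ⊓ A : Subgroup G) := hR.to_le inf_le_left
  obtain ⟨k, hk⟩ := IsPGroup.iff_card.mp h1
  have h2 : Nat.card ↥(R ⊓ A : Subgroup G) ∣ Nat.card ↥A := Subgroup.card_dvd_of_le inf_le_right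
  have h3 : (Nat.card ↥(R ⊓ A : Subgroup G)).Coprime p := Nat.Coprime.coprime_dvd_left h2 hA
  have h4 : Nat.card ↥(R ⊓ A : Subgroup G) = 1 := by
    rw [hk] at h3 ⊢
    rcases Nat.eq_zero_or_pos k with h | h
    · rw [h, pow_zero]
    · exfalso
      have hp : p.Prime := Fact.out
      have : p ∣ p ^ k := dvd_pow_self p h.ne'
      have h5 : p ∣ Nat.gcd (p ^ k) p := Nat.dvd_gcd this dvd_rfl
      rw [h3] at h5
      exact hp.one_lt.ne' (Nat.dvd_one.mp h5)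
  exact Subgroup.card_eq_one.mp h4

/-- There is no minimal counterexample. -/
theorem no_minCex
    (hquot : ∀ (X : Type u) [Group X] [Finite X] (N : Subgroup X) [N.Normal],
      Star p X → Star p (X ⧸ N))
    (hG : MinCex p G) : False := by
  classical
  obtain ⟨hp, hdvd⟩ := five_le_and_dvd hG
  have hF0 : ∀ B H : Subgroup G, IsMaxPP p B → H ≠ ⊤ → B ≤ H →
      ∃ k : ℕ, Nat.card ↥H = p ^ k * Nat.card ↥B :=
    fun B H hB hH hBH => hallIn_of_isMaxPP hG hB hH hBH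
  have hF1 : ∀ B : Subgroup G, IsMaxPP p B → (Nat.card ↥B).Coprime B.index :=
    fun B hB => coprime_index_of_isMaxPP hG hB (fun H hH hBH => hF0 B H hB hH hBH)
  have hF2 : ∀ (B B' : Subgroup G), IsMaxPP p B → IsMaxPP p B' → ∀ q : ℕ, q.Prime →
      q ∣ Nat.card ↥B → q ∣ Nat.card ↥B' → Nat.card ↥B = Nat.card ↥B' :=
    fun B B' hB hB' q hq h1 h2 => card_eq_of_common_prime hG hF0 hF1 hB hB' hq h1 h2
  have hK3 : ∀ B : Subgroup G, IsMaxPP p B → ∀ a ∈ B,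
      (∀ n ∈ normalizer (B : Set G), n * a = a * n) → a = 1 :=
    fun B hB a ha hc => eq_one_of_central_in_normalizer hG hF0 hB (hF1 B hB) ha hc
  have hS : ∀ B : Subgroup G, IsMaxPP p B → ∃ S : Subgroup G, IsPGroup p ↥S ∧
      S ≤ normalizer (B : Set G) ∧ ∀ a ∈ B, (∀ s ∈ S, s * a = a * s) → a = 1 := by
    intro B hB
    by_cases hB1 : B = ⊥
    · subst hB1
      exact ⟨⊥, IsPGroup.of_bot, bot_le, fun a ha _ => mem_bot.mp ha⟩
    · have hN := normalizer_ne_top_of_coprime hG hB.1 hB1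
      exact exists_pgroup_fixedPointFree (mn_comm_of_star hG.star hB.1) hB.1
        (hF0 B _ hB hN le_normalizer) (hK3 B hB)
  have hK4 : ∀ B : Subgroup G, IsMaxPP p B → Nat.card ↥B ≡ 1 [MOD p] := by
    intro B hB
    obtain ⟨S, h1, h2, h3⟩ := hS B hB
    exact card_modEq_one_of_fixedPointFree h1 h2 h3
  have hprod := card_eq_pow_mul hG hF1 hF2 hK4
  obtain ⟨P⟩ : Nonempty (Sylow p G) := inferInstance
  obtain ⟨B₀, hB₀p, hB₀N, hNle, hcardN⟩ := exists_sylow_complement P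
  have hB₀1 : B₀ ≠ ⊥ := complement_ne_bot hG hp hdvd P hB₀p hNle
  have hB₀nc : ¬ IsCyclic ↥B₀ := complement_not_isCyclic hG.star P hB₀p hB₀1 hcardN hprod
  obtain ⟨A, hA, hB₀A⟩ := exists_isMaxPP_ge hB₀p
  have hA1 : A ≠ ⊥ := fun h => hB₀1 (le_bot_iff.mp (h ▸ hB₀A))
  have hAc := mn_comm_of_star hG.star hA.1
  obtain ⟨S, hSp, hSA, hfix⟩ := hS A hA
  obtain ⟨H, hH, hNH, hCH⟩ := exists_proper_overgroup hquot hG hp hA hA1
    (fun H hH hAH => hF0 A H hA hH hAH) hSp hSA hfix (hK4 A hA)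
  have hAH : A ≤ H := le_normalizer.trans hNH
  have hPH : (P : Subgroup G) ≤ H :=
    le_of_not_isCyclic (B := B₀) (fun x hx y hy => hAc x (hB₀A hx) y (hB₀A hy)) hB₀p P.2 hB₀N
      hB₀nc (fun b hb hb1 => inf_le_right.trans (hCH b (hB₀A hb) hb1))
  obtain ⟨R, hRH, hRp, hHR, hHRA, -, hsyl, -⟩ :=
    local_structure hquot hG hA hH hAH (hF0 A H hA hH hAH)
  have hRA : R ⊓ A = ⊥ := mn_inf_eq_bot hRp hA.1
  have hall : ∀ b ∈ B₀, b = 1 := by
    intro b hb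
    apply hK3 A hA b (hB₀A hb)
    intro n hn
    have h1 := commutator_mem_core P hAc hA.1 hAH hRH hRp hHR hHRA hsyl
      (hF0 A H hA hH hAH) hPH (hB₀A hb) (hB₀N hb) n (hNH hn)
    have h2 : b * n * b⁻¹ * n⁻¹ ∈ A := by
      have h3 : n * b⁻¹ * n⁻¹ ∈ A :=
        (Subgroup.mem_normalizer_iff.mp hn b⁻¹).mp (inv_mem (hB₀A hb))
      have : b * n * b⁻¹ * n⁻¹ = b * (n * b⁻¹ * n⁻¹) := by group
      rw [this]
      exact mul_mem (hB₀A hb) h3
    have h4 : b * n * b⁻¹ * n⁻¹ ∈ R ⊓ A := ⟨h1, h2⟩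
    rw [hRA, mem_bot] at h4
    have : n * b = (b * n * b⁻¹ * n⁻¹)⁻¹ * (b * n) := by group
    rw [this, h4]; group
  exact hB₀1 (eq_bot_iff.mpr (fun b hb => mem_bot.mpr (hall b hb)))

end Cfsg.Agent.Lib.Helper3.S1936
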