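import Cfsg.Agent.Lib.Helper3.S1936.Defs

/-!
# S1936 hive, leaf L17 (helper19): two maximal `A`-invariant `p`-subgroups with nontrivial
intersection coincide (the maximal-intersection argument (E)).
-/

set_option autoImplicit false

universe u

namespace Cfsg.Agent.Lib.Helper3.S1936

open Subgroup

variable {G : Type u} [Group G] [Finite G] {p : ℕ} [Fact p.Prime]

/-- an element normalizing two subgroups normalizes their intersection -/
theorem l17_mem_normalizer_inf {Q₁ Q₂ : Subgroup G} {a : G}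
    (h1 : a ∈ normalizer (Q₁ : Set G)) (h2 : a ∈ normalizer (Q₂ : Set G)) :
    a ∈ normalizer ((Q₁ ⊓ Q₂ : Subgroup G) : Set G) := by
  rw [mem_normalizer_iff] at h1 h2 ⊢
  intro h
  rw [mem_inf, mem_inf, h1 h, h2 h]

/-- every `A`-invariant `p`-subgroup lies in a maximal one -/
theorem l17_exists_isMaxInvP_ge {A R : Subgroup G} (hR : IsInvP p A R) :
    ∃ Q : Subgroup G, IsMaxInvP p A Q ∧ R ≤ Q := by
  classical
  have hfin : Set.Finite {T : Subgroup G | IsInvP p A T ∧ R ≤ T} := Set.toFinite _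
  obtain ⟨Q, hQ, hmax⟩ := hfin.exists_maximalFor (fun T : Subgroup G => Nat.card ↥T) _
    ⟨R, hR, le_rfl⟩
  refine ⟨Q, ⟨hQ.1, fun T hT hQT => ?_⟩, hQ.2⟩
  have h1 : Nat.card ↥T ≤ Nat.card ↥Q := hmax ⟨hT, hQ.2.trans hQT⟩ (Subgroup.card_le_of_le hQT)
  exact (Subgroup.eq_of_le_of_card_ge hQT h1).symm

/-- a proper subgroup `D` of a `p`-group `Q` is properly contained in `N_Q(D)`; we produce an
element of `Q ∩ N(D)` outside `D` -/
theorem l17_exists_mem_normalizer_not_mem {Q D : Subgroup G} (hQ : IsPGroup p ↥Q)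
    (hDQ : D ≤ Q) (hne : D ≠ Q) :
    ∃ x ∈ Q, x ∈ normalizer (D : Set G) ∧ x ∉ D := by
  have hnil : Group.IsNilpotent ↥Q := hQ.isNilpotent
  have hnc := Group.normalizerCondition_of_isNilpotent (G := ↥Q)
  have h1 : D.subgroupOf Q < ⊤ := by
    rw [lt_top_iff_ne_top]
    intro htop
    rw [Subgroup.subgroupOf_eq_top] at htop
    exact hne (le_antisymm hDQ htop)
  have h2 := hnc _ h1
  obtain ⟨x, hxN, hxD⟩ := Set.exists_of_ssubset h2
  refine ⟨(x : G), x.2, ?_, fun hx => hxD (by rw [SetLike.mem_coe, mem_subgroupOf]; exact hx)⟩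
  have hmap : (D.subgroupOf Q).map Q.subtype = D := Subgroup.map_subgroupOf_eq_of_le hDQ
  have := Subgroup.le_normalizer_map (H := D.subgroupOf Q) Q.subtype
  rw [hmap] at this
  exact this ⟨x, hxN, rfl⟩

theorem l17_aux (hG : MinCex p G) {A : Subgroup G}
    (hD : ∀ H : Subgroup G, H ≠ ⊤ → A ≤ H → ∃ R : Subgroup G, IsPGroup p ↥R ∧
      A ≤ normalizer (R : Set G) ∧
      ∀ T : Subgroup G, T ≤ H → IsPGroup p ↥T → A ≤ normalizer (T : Set G) → T ≤ R) :
    ∀ n : ℕ, ∀ Q₁ Q₂ : Subgroup G, IsMaxInvP p A Q₁ → IsMaxInvP p A Q₂ → Q₁ ⊓ Q₂ ≠ ⊥ →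
      Nat.card G - Nat.card ↥(Q₁ ⊓ Q₂ : Subgroup G) = n → Q₁ = Q₂ := by
  intro n
  induction n using Nat.strong_induction_on with
  | _ n ih =>
    intro Q₁ Q₂ h₁ h₂ hne hn
    by_contra h12
    set D : Subgroup G := Q₁ ⊓ Q₂ with hDdef
    have hDp : IsPGroup p ↥D := h₁.1.1.to_le inf_le_left
    -- D is not the whole group
    have hDtop : D ≠ ⊤ := by
      intro htop
      apply hG.nonsolv
      have hGp : IsPGroup p G := by
        intro g
        obtain ⟨k, hk⟩ := hDp ⟨g, htop ▸ mem_top g⟩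
        exact ⟨k, by simpa [Subtype.ext_iff] using hk⟩
      haveI : Group.IsNilpotent G := hGp.isNilpotent
      infer_instance
    -- N(D) is proper
    have hNtop : normalizer (D : Set G) ≠ ⊤ := by
      intro htop
      haveI : D.Normal := Subgroup.normalizer_eq_top_iff.mp htop
      haveI := hG.simple
      rcases Subgroup.Normal.eq_bot_or_eq_top (H := D) inferInstance with h | h
      · exact hne h
      · exact hDtop h
    have hAD : A ≤ normalizer (D : Set G) := fun a ha =>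
      l17_mem_normalizer_inf (h₁.1.2 ha) (h₂.1.2 ha)
    obtain ⟨R, hRp, hAR, hR⟩ := hD _ hNtop hAD
    obtain ⟨Q₃, hQ₃, hRQ₃⟩ := l17_exists_isMaxInvP_ge (p := p) (A := A) (R := R) ⟨hRp, hAR⟩
    -- the key step for each side
    have key : ∀ Q : Subgroup G, IsMaxInvP p A Q → D ≤ Q → D ≠ Q → Q₃ = Q := by
      intro Q hQ hDQ hDne
      obtain ⟨x, hxQ, hxN, hxD⟩ := l17_exists_mem_normalizer_not_mem hQ.1.1 hDQ hDne
      -- T = Q ⊓ N(D) is an A-invariant p-subgroup of N(D)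
      have hT : Q ⊓ normalizer (D : Set G) ≤ R := by
        apply hR _ inf_le_right (hQ.1.1.to_le inf_le_left)
        intro a ha
        exact l17_mem_normalizer_inf (hQ.1.2 ha) (Subgroup.le_normalizer (hAD ha))
      have hxR : x ∈ R := hT ⟨hxQ, hxN⟩
      have hDR : D ≤ R := fun d hd => hT ⟨hDQ hd, Subgroup.le_normalizer hd⟩
      have hDle : D ≤ Q₃ ⊓ Q := le_inf (hDR.trans hRQ₃) hDQ
      have hlt : Nat.card ↥D < Nat.card ↥(Q₃ ⊓ Q : Subgroup G) := by
        by_contra hle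
        rw [not_lt] at hle
        have := Subgroup.eq_of_le_of_card_ge hDle hle
        exact hxD (this ▸ (⟨hRQ₃ hxR, hxQ⟩ : x ∈ Q₃ ⊓ Q))
      have hne' : Q₃ ⊓ Q ≠ ⊥ := by
        intro hb
        apply hne
        rw [eq_bot_iff]
        exact hb ▸ hDle
      have hle : Nat.card ↥(Q₃ ⊓ Q : Subgroup G) ≤ Nat.card G := Subgroup.card_le_card_group _
      exact ih (Nat.card G - Nat.card ↥(Q₃ ⊓ Q : Subgroup G)) (by omega) Q₃ Q hQ₃ hQ hne' rfl
    have e1 : Q₃ = Q₁ := by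
      apply key Q₁ h₁ inf_le_left
      intro h
      apply h12
      have hle : Q₁ ≤ Q₂ := h ▸ (inf_le_right : D ≤ Q₂)
      exact (h₁.2 Q₂ h₂.1 hle).symm
    have e2 : Q₃ = Q₂ := by
      apply key Q₂ h₂ inf_le_right
      intro h
      apply h12
      have hle : Q₂ ≤ Q₁ := h ▸ (inf_le_left : D ≤ Q₁)
      exact h₂.2 Q₁ h₁.1 hle
    exact h12 (e1.symm.trans e2)

theorem maxInvP_eq_of_inf_ne_bot (hG : MinCex p G) {A : Subgroup G}
    (hD : ∀ H : Subgroup G, H ≠ ⊤ → A ≤ H → ∃ R : Subgroup G, IsPGroup p ↥R ∧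
      A ≤ normalizer (R : Set G) ∧
      ∀ T : Subgroup G, T ≤ H → IsPGroup p ↥T → A ≤ normalizer (T : Set G) → T ≤ R)
    {Q₁ Q₂ : Subgroup G} (h₁ : IsMaxInvP p A Q₁) (h₂ : IsMaxInvP p A Q₂)
    (hne : Q₁ ⊓ Q₂ ≠ ⊥) : Q₁ = Q₂ :=
  l17_aux hG hD _ Q₁ Q₂ h₁ h₂ hne rfl

end Cfsg.Agent.Lib.Helper3.S1936
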