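import Cfsg.Agent.Lib.Helper3.S1936.Defs

/-!
# S1936 hive, leaf L03: reduction to a minimal counterexample (strong induction on the order)
-/

set_option autoImplicit false

universe u

namespace Cfsg.Agent.Lib.Helper3.S1936

open Subgroup

variable {G : Type u} [Group G] [Finite G] {p : ℕ} [Fact p.Prime]

/-! ### L03 file `Reduction.lean` (strong induction on the order) -/
theorem solvable_of_no_minCex
    (hsub : ∀ (X : Type u) [Group X] (K : Subgroup X), Star p X → Star p ↥K)
    (hquot : ∀ (X : Type u) [Group X] [Finite X] (N : Subgroup X) [N.Normal],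
      Star p X → Star p (X ⧸ N))
    (hno : ∀ (X : Type u) [Group X] [Finite X], ¬ MinCex p X) :
    ∀ (X : Type u) [Group X] [Finite X], Star p X → Group.IsSolvable X := by
  suffices H : ∀ n : ℕ, ∀ (X : Type u) [Group X] [Finite X], Nat.card X = n → Star p X →
      Group.IsSolvable X by
    intro X _ _ hX
    exact H _ X rfl hX
  intro n
  induction n using Nat.strong_induction_on with
  | _ n ih =>
    intro X _ _ hn hX
    by_cases hsolv : Group.IsSolvable X
    · exact hsolv
    exfalso
    by_cases hsimple : IsSimpleGroup X
    · apply hno X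
      refine ⟨hX, hsimple, hsolv, ?_⟩
      intro H hH
      have hlt : Nat.card ↥H < Nat.card X := by
        have hle : Nat.card ↥H ≤ Nat.card X := Subgroup.card_le_card_group H
        have hne : Nat.card ↥H ≠ Nat.card X := fun h => hH ((Subgroup.card_eq_iff_eq_top _).mp h)
        omega
      exact ih _ (hn ▸ hlt) ↥H rfl (hsub X H hX)
    · by_cases hss : Subsingleton X
      · exact hsolv inferInstance
      · have hnt : Nontrivial X := not_subsingleton_iff_nontrivial.mp hss
        have hex : ∃ N : Subgroup X, N.Normal ∧ N ≠ ⊥ ∧ N ≠ ⊤ := by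
          by_contra hcon
          push Not at hcon
          apply hsimple
          refine { toNontrivial := hnt, eq_bot_or_eq_top_of_normal := ?_ }
          intro N hN
          by_cases h : N = ⊥
          · left; exact h
          · right; exact hcon N hN h
        obtain ⟨N, hN, hN1, hN2⟩ := hex
        have hlt1 : Nat.card ↥N < Nat.card X := by
          have hle : Nat.card ↥N ≤ Nat.card X := Subgroup.card_le_card_group N
          have hne : Nat.card ↥N ≠ Nat.card X := fun h => hN2 ((Subgroup.card_eq_iff_eq_top _).mp h)
          omega
        have hlt2 : Nat.card (X ⧸ N) < Nat.card X := by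
          have h1 : 1 < Nat.card ↥N := (Subgroup.one_lt_card_iff_ne_bot _).mpr hN1
          have h2 := Subgroup.card_eq_card_quotient_mul_card_subgroup N
          have h3 : 0 < Nat.card (X ⧸ N) := Nat.card_pos
          rw [h2]
          nlinarith
        have h1 : Group.IsSolvable ↥N := ih _ (hn ▸ hlt1) ↥N rfl (hsub X N hX)
        have h2 : Group.IsSolvable (X ⧸ N) := ih _ (hn ▸ hlt2) (X ⧸ N) rfl (hquot X N hX)
        exact hsolv (Group.isSolvable_of_ker_le_range N.subtype (QuotientGroup.mk' N) (by simp))

end Cfsg.Agent.Lib.Helper3.S1936
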