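import Cfsg.Agent.Lib.Helper3.S1936.Defs

/-!
# S1936 hive, leaf L02: the hypothesis `Star` passes to quotients
(Frattini argument + Schur-Zassenhaus).
-/

set_option autoImplicit false

universe u

namespace Cfsg.Agent.Lib.Helper3.S1936

open Subgroup

variable {G : Type u} [Group G] [Finite G] {p : ℕ} [Fact p.Prime]

/-- If `Y / N` is a `p'`-group then `N` has a supplement of order prime to `p`. -/
theorem l02_exists_supplement {Y : Type u} [Group Y] [Finite Y] (N : Subgroup Y) [N.Normal]
    (hN : (N.index).Coprime p) : ∃ C : Subgroup Y, (Nat.card ↥C).Coprime p ∧ C ⊔ N = ⊤ := by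
  classical
  have hp : p.Prime := Fact.out
  obtain ⟨P⟩ : Nonempty (Sylow p ↥N) := inferInstance
  have hfrat : normalizer ((map N.subtype (P : Subgroup ↥N) : Subgroup Y) : Set Y) ⊔ N = ⊤ :=
    Sylow.normalizer_sup_eq_top P
  set Q : Subgroup Y := map N.subtype (P : Subgroup ↥N) with hQ
  set M : Subgroup Y := normalizer (Q : Set Y) with hM
  have hQM : Q ≤ M := le_normalizer
  have hQN : Q ≤ N := map_subtype_le _
  have hnorm : (Q.subgroupOf M).Normal := normal_in_normalizer
  -- `p` does not divide the index of `Q`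
  have hQidx : ¬ p ∣ Q.index := by
    rw [hQ, index_map_subtype]
    intro hdvd
    rcases (Nat.Prime.dvd_mul hp).1 hdvd with h1 | h1
    · exact Sylow.not_dvd_index P h1
    · exact (Nat.Prime.coprime_iff_not_dvd hp).1 hN.symm h1
  have hrel : ¬ p ∣ (Q.subgroupOf M).index := by
    intro hdvd
    apply hQidx
    have h2 : Q.relIndex M * M.index = Q.index := relIndex_mul_index hQM
    rw [← h2]
    exact Dvd.dvd.mul_right hdvd _
  have hPQ : IsPGroup p ↥(Q.subgroupOf M) := by
    have h1 : IsPGroup p ↥Q := P.2.map N.subtype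
    exact h1.comap_subtype
  obtain ⟨k, hk⟩ := hPQ.exists_card_eq
  have hcop : (Nat.card ↥(Q.subgroupOf M)).Coprime (Q.subgroupOf M).index := by
    rw [hk]
    exact Nat.Coprime.pow_left _ ((Nat.Prime.coprime_iff_not_dvd hp).2 hrel)
  obtain ⟨C₀, hC₀⟩ := exists_right_complement'_of_coprime hcop
  refine ⟨C₀.map M.subtype, ?_, ?_⟩
  · rw [card_map_of_injective M.subtype_injective]
    have h3 : (Q.subgroupOf M).index = Nat.card ↥C₀ := hC₀.symm.index_eq_card
    rw [← h3]
    exact ((Nat.Prime.coprime_iff_not_dvd hp).2 hrel).symm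
  · have h4 : Q.subgroupOf M ⊔ C₀ = ⊤ := hC₀.sup_eq_top
    have h5 : Q ⊔ C₀.map M.subtype = M := by
      have h6 := congrArg (map M.subtype) h4
      rw [Subgroup.map_sup, map_subgroupOf_eq_of_le hQM, ← MonoidHom.range_eq_map,
        range_subtype] at h6
      exact h6
    have hM' : M ≤ C₀.map M.subtype ⊔ N :=
      h5.symm.le.trans (sup_le (le_trans hQN le_sup_right) le_sup_left)
    exact top_le_iff.1 (hfrat.symm.le.trans (sup_le hM' le_sup_right))

theorem star_quotient {X : Type u} [Group X] [Finite X] (h : Star p X) (N : Subgroup X)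
    [N.Normal] : Star p (X ⧸ N) := by
  classical
  intro Hbar hHbar
  set H : Subgroup X := Hbar.comap (QuotientGroup.mk' N) with hH
  set φ : ↥H →* ↥Hbar := (QuotientGroup.mk' N).subgroupComap Hbar with hφ
  have hφsurj : Function.Surjective φ :=
    MonoidHom.subgroupComap_surjective_of_surjective _ _ (QuotientGroup.mk'_surjective N)
  have hker : φ.ker = N.subgroupOf H := by
    ext x
    rw [MonoidHom.mem_ker, mem_subgroupOf, Subtype.ext_iff]
    change (QuotientGroup.mk' N) (x : X) = 1 ↔ (x : X) ∈ N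
    rw [QuotientGroup.mk'_apply, QuotientGroup.eq_one_iff]
  have hidx : ((N.subgroupOf H).index).Coprime p := by
    rw [← hker, index_ker, MonoidHom.range_eq_top.2 hφsurj, card_top]
    exact hHbar
  obtain ⟨C, hC, hsup⟩ := l02_exists_supplement (p := p) (N.subgroupOf H) hidx
  set C' : Subgroup X := C.map H.subtype with hC'
  have hC'card : (Nat.card ↥C').Coprime p := by
    rw [hC', card_map_of_injective H.subtype_injective]
    exact hC
  obtain ⟨hcomm, hexp⟩ := h C' hC'card
  have hlift : ∀ y : X ⧸ N, y ∈ Hbar → ∃ c ∈ C', (QuotientGroup.mk' N) c = y := by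
    intro y hy
    obtain ⟨x, rfl⟩ := QuotientGroup.mk'_surjective N y
    have hx : x ∈ H := hy
    have hmem : (⟨x, hx⟩ : ↥H) ∈ C ⊔ N.subgroupOf H := by rw [hsup]; trivial
    obtain ⟨c, hc, n, hn, hcn⟩ := mem_sup_of_normal_right.1 hmem
    refine ⟨(c : X), ⟨c, hc, rfl⟩, ?_⟩
    have hx' : x = (c : X) * (n : X) := by
      have := congrArg (Subtype.val) hcn
      simpa using this.symm
    have hnN : (n : X) ∈ N := mem_subgroupOf.1 hn
    rw [hx', map_mul, QuotientGroup.mk'_apply, QuotientGroup.mk'_apply,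
      (QuotientGroup.eq_one_iff (n : X)).2 hnN, mul_one]
  refine ⟨⟨⟨fun a b => ?_⟩⟩, fun y hy => ?_⟩
  · obtain ⟨ca, hca, hca'⟩ := hlift a.1 a.2
    obtain ⟨cb, hcb, hcb'⟩ := hlift b.1 b.2
    have hcc : ca * cb = cb * ca := by
      have := hcomm.is_comm.comm (⟨ca, hca⟩ : ↥C') ⟨cb, hcb⟩
      exact congrArg Subtype.val this
    apply Subtype.ext
    change (a : X ⧸ N) * (b : X ⧸ N) = (b : X ⧸ N) * (a : X ⧸ N)
    rw [← hca', ← hcb', ← map_mul, ← map_mul, hcc]
  · obtain ⟨c, hc, hc'⟩ := hlift y hy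
    rw [← hc', ← map_pow, hexp c hc, map_one]

end Cfsg.Agent.Lib.Helper3.S1936
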