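import Cfsg.Agent.Lib.Helper3.S1936.Defs

/-! # S1936 hive, leaf L01 `star_subgroup` (helper79) -/

set_option autoImplicit false
set_option linter.unusedSectionVars false

universe u

namespace Cfsg.Agent.Lib.Helper3.S1936

open Subgroup

variable {G : Type u} [Group G] [Finite G] {p : ℕ} [Fact p.Prime]

theorem star_subgroup {X : Type u} [Group X] (h : Star p X) (K : Subgroup X) : Star p ↥K := by
  intro H hH
  have hcard : Nat.card ↥(H.map K.subtype) = Nat.card ↥H :=
    Nat.card_congr (H.equivMapOfInjective K.subtype K.subtype_injective).symm.toEquiv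
  obtain ⟨hc, he⟩ := h (H.map K.subtype) (by rw [hcard]; exact hH)
  refine ⟨⟨⟨?_⟩⟩, ?_⟩
  · intro a b
    have ha : (K.subtype a.1) ∈ H.map K.subtype := Subgroup.mem_map_of_mem _ a.2
    have hb : (K.subtype b.1) ∈ H.map K.subtype := Subgroup.mem_map_of_mem _ b.2
    have := hc.is_comm.comm ⟨_, ha⟩ ⟨_, hb⟩
    have h2 : (K.subtype a.1) * (K.subtype b.1) = (K.subtype b.1) * (K.subtype a.1) := by
      simpa using congrArg Subtype.val this
    apply Subtype.ext
    apply Subtype.ext
    simpa using h2
  · intro x hx
    have hx' : K.subtype x ∈ H.map K.subtype := Subgroup.mem_map_of_mem _ hx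
    have := he _ hx'
    apply Subtype.ext
    simpa using this

end Cfsg.Agent.Lib.Helper3.S1936
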