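import Cfsg.Agent.Lib.Helper3.S1936.Defs

/-! # S1936 hive (helper3), leaf L19 (helper75): the weight of `A` on an invariant subgroup of order `p` -/

set_option autoImplicit false

universe u

namespace Cfsg.Agent.Lib.Helper3.S1936

open Subgroup

variable {G : Type u} [Group G] [Finite G] {p : ℕ} [Fact p.Prime]

theorem l19_le_normalizer {A : Subgroup G} {v : G}
    (hinv : ∀ a ∈ A, a * v * a⁻¹ ∈ zpowers v) : A ≤ normalizer ((zpowers v : Subgroup G) : Set G) := by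
  have key : ∀ a ∈ A, ∀ h ∈ zpowers v, a * h * a⁻¹ ∈ zpowers v := by
    intro a ha h hh
    obtain ⟨k, rfl⟩ := mem_zpowers_iff.1 hh
    have e : a * v ^ k * a⁻¹ = (a * v * a⁻¹) ^ k := by
      rw [conj_zpow]
    rw [e]
    exact zpow_mem (hinv a ha) k
  intro a ha
  rw [mem_normalizer_iff]
  intro h
  constructor
  · exact key a ha h
  · intro hh
    have := key a⁻¹ (inv_mem ha) _ hh
    have e : a⁻¹ * (a * h * a⁻¹) * a⁻¹⁻¹ = h := by group
    rwa [e] at this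

theorem exists_weight {A : Subgroup G} {v : G} (hv1 : v ≠ 1) (hvp : v ^ p = 1)
    (hinv : ∀ a ∈ A, a * v * a⁻¹ ∈ zpowers v) :
    ∃ φ : ↥A →* (ZMod p)ˣ, ∀ a : ↥A, φ a = 1 → (a : G) * v = v * (a : G) := by
  have hAN := l19_le_normalizer hinv
  have hord : orderOf v = p := orderOf_eq_prime hvp hv1
  have hcard : Nat.card ↥(zpowers v) = p := by rw [Nat.card_zpowers, hord]
  let ψ : ↥A →* MulAut ↥(zpowers v) :=
    (normalizerMonoidHom (zpowers v)).comp (Subgroup.inclusion hAN)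
  let e1 : MulAut ↥(zpowers v) ≃* (ZMod (Nat.card ↥(zpowers v)))ˣ := IsCyclic.mulAutMulEquiv ↥(zpowers v)
  let e2 : (ZMod (Nat.card ↥(zpowers v)))ˣ ≃* (ZMod p)ˣ :=
    Units.mapEquiv (ZMod.ringEquivCongr hcard).toMulEquiv
  refine ⟨e2.toMonoidHom.comp (e1.toMonoidHom.comp ψ), ?_⟩
  intro a ha
  have h1 : ψ a = 1 := by
    have h2 : e2 (e1 (ψ a)) = 1 := ha
    have h3 : e1 (ψ a) = 1 := (MulEquiv.map_eq_one_iff e2).1 h2
    exact (MulEquiv.map_eq_one_iff e1).1 h3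
  have h4 : ψ a ⟨v, mem_zpowers v⟩ = ⟨v, mem_zpowers v⟩ := by rw [h1]; rfl
  have h5 : ((ψ a ⟨v, mem_zpowers v⟩ : ↥(zpowers v)) : G) = (a : G) * v * (a : G)⁻¹ := rfl
  rw [h4] at h5
  have h6 : v = (a : G) * v * (a : G)⁻¹ := h5
  calc (a : G) * v = ((a : G) * v * (a : G)⁻¹) * (a : G) := by group
    _ = v * (a : G) := by rw [← h6]

end Cfsg.Agent.Lib.Helper3.S1936
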