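import Cfsg.Agent.Lib.Helper3.S1936.Defs
import Cfsg.Agent.Lib.Helper3.S1936.CommonKer
import Cfsg.Agent.Lib.Helper3.S1936.LocalStructure
import Cfsg.Agent.Lib.Helper3.S1936.MaxInvTI
import Cfsg.Agent.Lib.Helper3.S1936.InvLine
import Cfsg.Agent.Lib.Helper3.S1936.Weight
import Cfsg.Agent.Lib.Helper3.S1936.Basics

/-!
# S1936 hive: the uniqueness theorem (assembly of L11, L16, L17, L18, L19, L22)
-/

set_option autoImplicit false
set_option linter.unusedSectionVars false

universe u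

namespace Cfsg.Agent.Lib.Helper3.S1936

open Subgroup

variable {G : Type u} [Group G] [Finite G] {p : ℕ} [Fact p.Prime]

theorem uq_mem_normalizer_inf {X Y : Subgroup G} {g : G} (hX : g ∈ normalizer (X : Set G))
    (hY : g ∈ normalizer (Y : Set G)) : g ∈ normalizer ((X ⊓ Y : Subgroup G) : Set G) := by
  rw [Subgroup.mem_normalizer_iff] at hX hY ⊢
  intro h
  rw [Subgroup.mem_inf, Subgroup.mem_inf, ← hX h, ← hY h]

theorem uq_le_normalizer_centralizer {A : Subgroup G}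
    (hAc : ∀ x ∈ A, ∀ y ∈ A, x * y = y * x) {c : G} (hc : c ∈ A) :
    A ≤ normalizer ((centralizer ({c} : Set G) : Subgroup G) : Set G) := by
  intro a ha
  apply le_normalizer
  rw [mem_centralizer_singleton_iff]
  exact hAc a ha c hc

/-- the conjugate `n Y n⁻¹` -/
def uqConj (n : G) (Y : Subgroup G) : Subgroup G := Y.map (MulAut.conj n).toMonoidHom

theorem uq_mem_conj {n : G} {Y : Subgroup G} {x : G} :
    x ∈ uqConj n Y ↔ n⁻¹ * x * n ∈ Y := by
  unfold uqConj
  constructor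
  · rintro ⟨y, hy, rfl⟩
    simpa [MulAut.conj_apply, mul_assoc] using hy
  · intro h
    refine ⟨n⁻¹ * x * n, h, ?_⟩
    simp [MulAut.conj_apply, mul_assoc]

theorem uq_card_conj (n : G) (Y : Subgroup G) : Nat.card ↥(uqConj n Y) = Nat.card ↥Y := by
  unfold uqConj
  exact Nat.card_congr (Y.equivMapOfInjective _ (MulAut.conj n).injective).symm.toEquiv

theorem uq_isPGroup_conj {n : G} {Y : Subgroup G} (hY : IsPGroup p ↥Y) :
    IsPGroup p ↥(uqConj n Y) := by
  unfold uqConj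
  exact hY.map _

theorem uq_normalizer_conj {A Y : Subgroup G} {n : G} (hn : n ∈ normalizer (A : Set G))
    (hAY : A ≤ normalizer (Y : Set G)) : A ≤ normalizer ((uqConj n Y : Subgroup G) : Set G) := by
  intro a ha
  have hn' : n⁻¹ ∈ normalizer (A : Set G) := inv_mem hn
  have ha' : n⁻¹ * a * n ∈ A := by
    have := (Subgroup.mem_normalizer_iff.mp hn' a).mp ha
    simpa using this
  have h1 := hAY ha'
  rw [Subgroup.mem_normalizer_iff] at h1 ⊢
  intro x
  rw [uq_mem_conj, uq_mem_conj, h1 (n⁻¹ * x * n)]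
  have : n⁻¹ * a * n * (n⁻¹ * x * n) * (n⁻¹ * a * n)⁻¹ = n⁻¹ * (a * x * a⁻¹) * n := by
    group
  rw [this]

theorem uq_conj_le_centralizer {Y : Subgroup G} {a n : G}
    (hY : Y ≤ centralizer ({a} : Set G)) :
    uqConj n Y ≤ centralizer ({n * a * n⁻¹} : Set G) := by
  intro x hx
  rw [uq_mem_conj] at hx
  have := hY hx
  rw [mem_centralizer_singleton_iff] at this ⊢
  have h2 : x * (n * a * n⁻¹) = n * ((n⁻¹ * x * n) * a) * n⁻¹ := by group
  have h3 : (n * a * n⁻¹) * x = n * (a * (n⁻¹ * x * n)) * n⁻¹ := by group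
  rw [h2, h3, this]

theorem uq_conj_ne_bot {n : G} {Y : Subgroup G} (hY : Y ≠ ⊥) : uqConj n Y ≠ ⊥ := by
  intro h
  apply hY
  have h1 : Nat.card ↥(uqConj n Y) = 1 := by rw [h]; exact Subgroup.card_bot
  rw [uq_card_conj] at h1
  exact Subgroup.card_eq_one.mp h1

/-- **Uniqueness theorem**: for a maximal `p'`-subgroup `A`, some proper subgroup contains `N(A)`
and the centralizers of all nontrivial elements of `A`. -/
theorem exists_proper_overgroup
    (hquot : ∀ (X : Type u) [Group X] [Finite X] (N : Subgroup X) [N.Normal],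
      Star p X → Star p (X ⧸ N))
    (hG : MinCex p G) (hp : 5 ≤ p) {A : Subgroup G} (hA : IsMaxPP p A) (hA1 : A ≠ ⊥)
    (hF0 : ∀ H : Subgroup G, H ≠ ⊤ → A ≤ H → ∃ k : ℕ, Nat.card ↥H = p ^ k * Nat.card ↥A)
    {S : Subgroup G} (hS : IsPGroup p ↥S) (hSA : S ≤ normalizer (A : Set G))
    (hfix : ∀ a ∈ A, (∀ s ∈ S, s * a = a * s) → a = 1)
    (hcard : Nat.card ↥A ≡ 1 [MOD p]) :
    ∃ H : Subgroup G, H ≠ ⊤ ∧ normalizer (A : Set G) ≤ H ∧
      ∀ a ∈ A, a ≠ 1 → centralizer ({a} : Set G) ≤ H := by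
  classical
  obtain ⟨hAcomm, hAexp⟩ := hG.star A hA.1
  have hAc : ∀ x ∈ A, ∀ y ∈ A, x * y = y * x := by
    intro x hx y hy
    have := hAcomm.is_comm.comm (⟨x, hx⟩ : ↥A) ⟨y, hy⟩
    exact congrArg Subtype.val this
  have hD := fun (H : Subgroup G) (hH : H ≠ ⊤) (hAH : A ≤ H) =>
    local_structure hquot hG hA hH hAH (hF0 H hH hAH)
  have hD' : ∀ H : Subgroup G, H ≠ ⊤ → A ≤ H → ∃ R : Subgroup G, IsPGroup p ↥R ∧
      A ≤ normalizer (R : Set G) ∧
      ∀ T : Subgroup G, T ≤ H → IsPGroup p ↥T → A ≤ normalizer (T : Set G) → T ≤ R := by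
    intro H hH hAH
    obtain ⟨R, -, hRp, hHR, -, hmax, -, -⟩ := hD H hH hAH
    exact ⟨R, hRp, hAH.trans hHR, hmax⟩
  have hCa : ∀ a ∈ A, a ≠ 1 →
      centralizer ({a} : Set G) ≠ ⊤ ∧ A ≤ centralizer ({a} : Set G) := by
    intro a haA ha1
    refine ⟨centralizer_ne_top hG ha1, ?_⟩
    intro x hx
    rw [mem_centralizer_singleton_iff]
    exact hAc x hx a haA
  by_cases hall : ∀ a ∈ A, a ≠ 1 → ∀ R : Subgroup G,
      (R ≤ centralizer ({a} : Set G) ∧ IsPGroup p ↥R ∧ A ≤ normalizer (R : Set G)) → R = ⊥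
  · -- all `θ(a)` trivial: `H = N(A)`
    refine ⟨normalizer (A : Set G), normalizer_ne_top_of_coprime hG hA.1 hA1, le_rfl, ?_⟩
    intro a haA ha1 h hh
    obtain ⟨hne, hle⟩ := hCa a haA ha1
    obtain ⟨R, hRH, hRp, hHR, -, -, -, hfr⟩ := hD _ hne hle
    have hR0 : R = ⊥ := hall a haA ha1 R ⟨hRH, hRp, hle.trans hHR⟩
    obtain ⟨r, hr, hn⟩ := hfr h hh
    rw [hR0, mem_bot] at hr
    subst hr
    simpa using hn
  · push Not at hall
    obtain ⟨a₀, ha₀A, ha₀1, X, ⟨hXC, hXp, hXA⟩, hX1⟩ := hall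
    obtain ⟨Q, hQ, hXQ⟩ := exists_isMaxInvP_ge (p := p) (A := A) (T := X) ⟨hXp, hXA⟩
    -- key claim
    have key : ∀ a ∈ A, a ≠ 1 → ∀ Y : Subgroup G, Y ≤ centralizer ({a} : Set G) →
        IsPGroup p ↥Y → A ≤ normalizer (Y : Set G) → Y ≤ Q := by
      intro a haA ha1 Y hYC hYp hYA
      by_cases hY1 : Y = ⊥
      · rw [hY1]; exact bot_le
      obtain ⟨v, hvX, hv1, hvp, hvinv⟩ := exists_invariant_order_p hAc hAexp ⟨hXp, hXA⟩ hX1
      obtain ⟨φ, hφ⟩ := exists_weight (A := A) hv1 hvp hvinv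
      obtain ⟨w, hwY, hw1, hwp, hwinv⟩ := exists_invariant_order_p hAc hAexp ⟨hYp, hYA⟩ hY1
      obtain ⟨ψ, hψ⟩ := exists_weight (A := A) hw1 hwp hwinv
      obtain ⟨c, hc1, hφc, hψc⟩ := exists_common_ker hp hA1 hAc hS hSA hfix hcard φ ψ
      have hcv := hφ c hφc
      have hcw := hψ c hψc
      have hcA : (c : G) ∈ A := c.2
      have hc1' : (c : G) ≠ 1 := fun h => hc1 (Subtype.ext h)
      obtain ⟨hne, hle⟩ := hCa c hcA hc1'
      obtain ⟨R, hRH, hRp, hHR, -, hmax, -, -⟩ := hD _ hne hle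
      have hAN := uq_le_normalizer_centralizer hAc hcA
      have hXc : X ⊓ centralizer ({(c : G)} : Set G) ≤ R :=
        hmax _ inf_le_right (hXp.to_le inf_le_left)
          (fun g hg => uq_mem_normalizer_inf (hXA hg) (hAN hg))
      have hYc : Y ⊓ centralizer ({(c : G)} : Set G) ≤ R :=
        hmax _ inf_le_right (hYp.to_le inf_le_left)
          (fun g hg => uq_mem_normalizer_inf (hYA hg) (hAN hg))
      have hRinv : IsInvP p A R := ⟨hRp, hle.trans hHR⟩
      obtain ⟨Qc, hQc, hRQc⟩ := exists_isMaxInvP_ge hRinv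
      obtain ⟨Qa, hQa, hYQa⟩ := exists_isMaxInvP_ge (p := p) (A := A) (T := Y) ⟨hYp, hYA⟩
      have hvc : v ∈ centralizer ({(c : G)} : Set G) := by
        rw [mem_centralizer_singleton_iff]; exact hcv.symm
      have hwc : w ∈ centralizer ({(c : G)} : Set G) := by
        rw [mem_centralizer_singleton_iff]; exact hcw.symm
      have h1 : Q = Qc := by
        apply maxInvP_eq_of_inf_ne_bot hG hD' hQ hQc
        intro h
        have hv : v ∈ Q ⊓ Qc := ⟨hXQ hvX, hRQc (hXc ⟨hvX, hvc⟩)⟩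
        rw [h, mem_bot] at hv
        exact hv1 hv
      have h2 : Qa = Qc := by
        apply maxInvP_eq_of_inf_ne_bot hG hD' hQa hQc
        intro h
        have hw : w ∈ Qa ⊓ Qc := ⟨hYQa hwY, hRQc (hYc ⟨hwY, hwc⟩)⟩
        rw [h, mem_bot] at hw
        exact hw1 hw
      rw [h1, ← h2]
      exact hYQa
    have hQ1 : Q ≠ ⊥ := fun h => hX1 (le_bot_iff.mp (h ▸ hXQ))
    have hNQ : normalizer (Q : Set G) ≠ ⊤ := normalizer_ne_top_of_isPGroup hG hQ.1.1 hQ1
    -- conjugates of `Q` by `N(A)` stay inside `Q`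
    have hconj : ∀ n ∈ normalizer (A : Set G), uqConj n Q ≤ Q := by
      intro n hn
      have hXn : uqConj n X ≤ Q := by
        have hnA : n * a₀ * n⁻¹ ∈ A := (Subgroup.mem_normalizer_iff.mp hn a₀).mp ha₀A
        have hne1 : n * a₀ * n⁻¹ ≠ 1 := by
          intro h
          apply ha₀1
          have : a₀ = n⁻¹ * (n * a₀ * n⁻¹) * n := by group
          rw [this, h]; group
        exact key _ hnA hne1 _ (uq_conj_le_centralizer hXC) (uq_isPGroup_conj hXp)
          (uq_normalizer_conj hn hXA)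
      have hQn : IsInvP p A (uqConj n Q) :=
        ⟨uq_isPGroup_conj hQ.1.1, uq_normalizer_conj hn hQ.1.2⟩
      obtain ⟨Q', hQ', hle'⟩ := exists_isMaxInvP_ge hQn
      have hXnQn : uqConj n X ≤ uqConj n Q := by
        intro x hx
        rw [uq_mem_conj] at hx ⊢
        exact hXQ hx
      have heq : Q' = Q := by
        apply maxInvP_eq_of_inf_ne_bot hG hD' hQ' hQ
        intro h
        apply uq_conj_ne_bot (n := n) hX1
        rw [eq_bot_iff, ← h]
        exact le_inf (hXnQn.trans hle') hXn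
      exact hle'.trans heq.le
    have hNAQ : normalizer (A : Set G) ≤ normalizer (Q : Set G) := by
      intro n hn
      rw [Subgroup.mem_normalizer_iff]
      intro h
      constructor
      · intro hh
        apply hconj n hn
        rw [uq_mem_conj]
        have : n⁻¹ * (n * h * n⁻¹) * n = h := by group
        rw [this]; exact hh
      · intro hh
        have := hconj n⁻¹ (inv_mem hn)
        have h2 : h ∈ uqConj n⁻¹ Q := by
          rw [uq_mem_conj]
          simpa using hh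
        exact this h2
    refine ⟨normalizer (Q : Set G), hNQ, hNAQ, ?_⟩
    intro a haA ha1 h hh
    obtain ⟨hne, hle⟩ := hCa a haA ha1
    obtain ⟨R, hRH, hRp, hHR, -, -, -, hfr⟩ := hD _ hne hle
    have hRQ : R ≤ Q := key a haA ha1 R hRH hRp (hle.trans hHR)
    obtain ⟨r, hr, hn⟩ := hfr h hh
    have h1 : h * r ∈ normalizer (Q : Set G) := hNAQ hn
    have h2 : r ∈ normalizer (Q : Set G) := le_normalizer (hRQ hr)
    have : h = (h * r) * r⁻¹ := by group
    rw [this]
    exact mul_mem h1 (inv_mem h2)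

end Cfsg.Agent.Lib.Helper3.S1936
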